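/-
Abstract root subgroups: basic relations between members of a set of abstract root subgroups
(helper733, section 63).
-/
import Cfsg.Agent.H731.RankOne
set_option linter.all false

set_option autoImplicit false
open Cfsg Cfsg.Agent.H731

namespace Cfsg.Agent.H733

variable {G : Type*} [Group G] {S : Set (Subgroup G)} {A B C D : Subgroup G}

/-! ### The commutator case -/

theorem closure_comm_swap (b : G) (T : Set G) :
    Subgroup.closure ((fun a : G => b * a * b⁻¹ * a⁻¹) '' T) =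
      Subgroup.closure ((fun a : G => a * b * a⁻¹ * b⁻¹) '' T) := by
  have key : ∀ (f g : G → G), (∀ a, (f a)⁻¹ = g a) →
      Subgroup.closure (f '' T) ≤ Subgroup.closure (g '' T) := by
    intro f g hfg
    rw [Subgroup.closure_le]
    rintro _ ⟨a, ha, rfl⟩
    have h1 : g a ∈ Subgroup.closure (g '' T) := Subgroup.subset_closure ⟨a, ha, rfl⟩
    rw [← hfg a] at h1
    simpa using Subgroup.inv_mem _ h1
  apply le_antisymm
  · exact key _ _ (fun a => by simp [mul_assoc])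
  · exact key _ _ (fun a => by simp [mul_assoc])

theorem rootCommutatorCase_symm (h : RootCommutatorCase S A B) : RootCommutatorCase S B A := by
  obtain ⟨h1, h2, h3, h4⟩ := h
  have hc : ⁅B, A⁆ = ⁅A, B⁆ := Subgroup.commutator_comm B A
  refine ⟨by rwa [hc], by rw [hc, sup_comm]; exact h2, ?_, ?_⟩
  · intro b hb hb1
    rw [hc, ← h4 b hb hb1]
    exact closure_comm_swap b _
  · intro a ha ha1
    rw [hc, ← h3 a ha ha1]
    exact (closure_comm_swap a _).symm

theorem rootCommutatorCase_comm : RootCommutatorCase S A B ↔ RootCommutatorCase S B A :=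
  ⟨rootCommutatorCase_symm, rootCommutatorCase_symm⟩

theorem image_conj_comm (g a : G) (T : Subgroup G) :
    (fun b : G => (g * a * g⁻¹) * b * (g * a * g⁻¹)⁻¹ * b⁻¹) '' ((conjBy T g : Subgroup G) : Set G) =
      (fun x : G => g * x * g⁻¹) '' ((fun b : G => a * b * a⁻¹ * b⁻¹) '' (T : Set G)) := by
  ext x
  constructor
  · rintro ⟨_, ⟨t, ht, rfl⟩, rfl⟩
    exact ⟨a * t * a⁻¹ * t⁻¹, ⟨t, ht, rfl⟩, by simp [mul_assoc]⟩
  · rintro ⟨_, ⟨t, ht, rfl⟩, rfl⟩
    exact ⟨g * t * g⁻¹, conj_mem_conjBy ht g, by simp [mul_assoc]⟩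

theorem image_conj_comm' (g b : G) (T : Subgroup G) :
    (fun a : G => a * (g * b * g⁻¹) * a⁻¹ * (g * b * g⁻¹)⁻¹) '' ((conjBy T g : Subgroup G) : Set G) =
      (fun x : G => g * x * g⁻¹) '' ((fun a : G => a * b * a⁻¹ * b⁻¹) '' (T : Set G)) := by
  ext x
  constructor
  · rintro ⟨_, ⟨t, ht, rfl⟩, rfl⟩
    exact ⟨t * b * t⁻¹ * b⁻¹, ⟨t, ht, rfl⟩, by simp [mul_assoc]⟩
  · rintro ⟨_, ⟨t, ht, rfl⟩, rfl⟩
    exact ⟨g * t * g⁻¹, conj_mem_conjBy ht g, by simp [mul_assoc]⟩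

theorem rootCommutatorCase_conj (hconj : ∀ A ∈ S, ∀ g : G, conjBy A g ∈ S) (h : RootCommutatorCase S A B) (g : G) :
    RootCommutatorCase S (conjBy A g) (conjBy B g) := by
  obtain ⟨h1, h2, h3, h4⟩ := h
  refine ⟨by rw [← conjBy_commutator]; exact hconj _ h1 g, ?_, ?_, ?_⟩
  · intro c hc x hx
    rw [← conjBy_commutator, mem_conjBy] at hc
    rw [← conjBy_sup, mem_conjBy] at hx
    have h5 := h2 _ hc _ hx
    have h6 : g * (g⁻¹ * c * g * (g⁻¹ * x * g)) * g⁻¹ = g * (g⁻¹ * x * g * (g⁻¹ * c * g)) * g⁻¹ := by rw [h5]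
    simpa [mul_assoc] using h6
  · intro a ha ha1
    obtain ⟨a, ha, rfl⟩ := ha
    have ha1' : a ≠ 1 := by
      rintro rfl; exact ha1 (by simp)
    have h5 := image_conj_comm g a B
    rw [← conjBy_commutator, ← h3 a ha ha1', conjBy_closure, ← h5]
    rfl
  · intro b hb hb1
    obtain ⟨b, hb, rfl⟩ := hb
    have hb1' : b ≠ 1 := by
      rintro rfl; exact hb1 (by simp)
    have h5 := image_conj_comm' g b A
    rw [← conjBy_commutator, ← h4 b hb hb1', conjBy_closure, ← h5]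
    rfl

/-- Elements of `[A, B]` commute with those of `A` in the commutator case. -/
theorem rcc_comm_left (h : RootCommutatorCase S A B) {c a : G} (hc : c ∈ ⁅A, B⁆) (ha : a ∈ A) : c * a = a * c :=
  h.2.1 c hc a (Subgroup.mem_sup_left ha)

theorem rcc_comm_right (h : RootCommutatorCase S A B) {c b : G} (hc : c ∈ ⁅A, B⁆) (hb : b ∈ B) : c * b = b * c :=
  h.2.1 c hc b (Subgroup.mem_sup_right hb)

theorem rcc_comm_self (h : RootCommutatorCase S A B) {c c' : G} (hc : c ∈ ⁅A, B⁆) (hc' : c' ∈ ⁅A, B⁆) :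
    c * c' = c' * c := by
  exact h.2.1 c hc c' (Subgroup.commutator_le_sup A B hc')

theorem comm_mem {a b : G} (ha : a ∈ A) (hb : b ∈ B) : a * b * a⁻¹ * b⁻¹ ∈ ⁅A, B⁆ := by
  have := Subgroup.commutator_mem_commutator ha hb
  rwa [commutatorElement_def] at this

/-- `a b a⁻¹ b⁻¹` is multiplicative in `b` in the commutator case. -/
theorem rcc_comm_mul_right (h : RootCommutatorCase S A B) {a b b' : G} (ha : a ∈ A) (hb : b ∈ B) (hb' : b' ∈ B) :
    a * (b * b') * a⁻¹ * (b * b')⁻¹ = (a * b * a⁻¹ * b⁻¹) * (a * b' * a⁻¹ * b'⁻¹) := by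
  have h1 := rcc_comm_right h (comm_mem ha hb') (B.inv_mem hb)
  have h2 : a * (b * b') * a⁻¹ * (b * b')⁻¹ = a * b * a⁻¹ * ((a * b' * a⁻¹ * b'⁻¹) * b⁻¹) := by
    simp [mul_assoc]
  rw [h2, h1]; simp [mul_assoc]

/-- `a b a⁻¹ b⁻¹` is multiplicative in `a` in the commutator case. -/
theorem rcc_comm_mul_left (h : RootCommutatorCase S A B) {a a' b : G} (ha : a ∈ A) (ha' : a' ∈ A) (hb : b ∈ B) :
    (a * a') * b * (a * a')⁻¹ * b⁻¹ = (a * b * a⁻¹ * b⁻¹) * (a' * b * a'⁻¹ * b⁻¹) := by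
  have h0 := rcc_comm_left h (comm_mem ha' hb) ha
  have h0' := rcc_comm_right h (comm_mem ha' hb) hb
  have h1 : (a * a') * b * (a * a')⁻¹ * b⁻¹ = a * (a' * b * a'⁻¹ * b⁻¹) * b * a⁻¹ * b⁻¹ := by
    simp [mul_assoc]
  have hai := rcc_comm_left h (comm_mem ha' hb) (A.inv_mem ha)
  have hbi := rcc_comm_right h (comm_mem ha' hb) (B.inv_mem hb)
  calc (a * a') * b * (a * a')⁻¹ * b⁻¹ = a * (a' * b * a'⁻¹ * b⁻¹) * b * a⁻¹ * b⁻¹ := h1
    _ = a * ((a' * b * a'⁻¹ * b⁻¹) * b) * a⁻¹ * b⁻¹ := by simp only [mul_assoc]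
    _ = a * (b * (a' * b * a'⁻¹ * b⁻¹)) * a⁻¹ * b⁻¹ := by rw [h0']
    _ = a * b * ((a' * b * a'⁻¹ * b⁻¹) * a⁻¹) * b⁻¹ := by simp only [mul_assoc]
    _ = a * b * (a⁻¹ * (a' * b * a'⁻¹ * b⁻¹)) * b⁻¹ := by rw [hai]
    _ = a * b * a⁻¹ * ((a' * b * a'⁻¹ * b⁻¹) * b⁻¹) := by simp only [mul_assoc]
    _ = a * b * a⁻¹ * (b⁻¹ * (a' * b * a'⁻¹ * b⁻¹)) := by rw [hbi]
    _ = (a * b * a⁻¹ * b⁻¹) * (a' * b * a'⁻¹ * b⁻¹) := by simp only [mul_assoc]

theorem rcc_comm_one_right {a : G} : a * 1 * a⁻¹ * (1 : G)⁻¹ = 1 := by simp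

/-- In the commutator case the set `{a b a⁻¹ b⁻¹ | b ∈ B}` is the whole of `[A, B]` for `1 ≠ a ∈ A`. -/
theorem rcc_exists_right (h : RootCommutatorCase S A B) {a c : G} (ha : a ∈ A) (ha1 : a ≠ 1) (hc : c ∈ ⁅A, B⁆) :
    ∃ b ∈ B, a * b * a⁻¹ * b⁻¹ = c := by
  have h3 := h.2.2.1 a ha ha1
  rw [← h3] at hc
  induction hc using Subgroup.closure_induction with
  | mem x hx =>
    obtain ⟨b, hb, rfl⟩ := hx
    exact ⟨b, hb, rfl⟩
  | one => exact ⟨1, B.one_mem, by simp⟩
  | mul x y _ _ ihx ihy =>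
    obtain ⟨b, hb, rfl⟩ := ihx
    obtain ⟨b', hb', rfl⟩ := ihy
    exact ⟨b * b', B.mul_mem hb hb', rcc_comm_mul_right h ha hb hb'⟩
  | inv x _ ih =>
    obtain ⟨b, hb, rfl⟩ := ih
    refine ⟨b⁻¹, B.inv_mem hb, ?_⟩
    have h1 := rcc_comm_mul_right h ha hb (B.inv_mem hb)
    rw [mul_inv_cancel] at h1
    rw [eq_inv_iff_mul_eq_one, rcc_comm_self h (comm_mem ha (B.inv_mem hb)) (comm_mem ha hb), ← h1]
    simp

theorem rcc_exists_left (h : RootCommutatorCase S A B) {b c : G} (hb : b ∈ B) (hb1 : b ≠ 1) (hc : c ∈ ⁅A, B⁆) :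
    ∃ a ∈ A, a * b * a⁻¹ * b⁻¹ = c := by
  have hc' : c⁻¹ ∈ ⁅B, A⁆ := by
    rw [Subgroup.commutator_comm]; exact Subgroup.inv_mem _ hc
  obtain ⟨a, ha, h1⟩ := rcc_exists_right (rootCommutatorCase_symm h) hb hb1 hc'
  refine ⟨a, ha, ?_⟩
  rw [← inv_inj, ← h1]
  simp [mul_assoc]

/-! ### Symmetry and conjugation of the relations -/

theorem fAdj_symm (h : FAdj S A B) : FAdj S B A := ⟨h.2.1, h.1, RankOnePair_symm h.2.2⟩

theorem dAdj_symm (h : DAdj S A B) : DAdj S B A :=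
  ⟨h.2.1, h.1, h.2.2.1.symm, by rw [Subgroup.commutator_comm]; exact h.2.2.2⟩

theorem commutingPartners_symm (hA : A ∈ S) (h : B ∈ commutingPartners S A) : A ∈ commutingPartners S B :=
  ⟨hA, h.2.1.symm, by rw [Subgroup.commutator_comm]; exact h.2.2⟩

theorem linePartners_symm (hA : A ∈ S) (h : B ∈ linePartners S A) : A ∈ linePartners S B :=
  ⟨commutingPartners_symm hA h.1, by rw [sup_comm]; exact h.2⟩

theorem commutatorPartners_symm (hA : A ∈ S) (h : B ∈ commutatorPartners S A) : A ∈ commutatorPartners S B :=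
  ⟨hA, by rw [Subgroup.commutator_comm]; exact h.2⟩

theorem rankOnePartners_symm (hA : A ∈ S) (h : B ∈ rankOnePartners S A) : A ∈ rankOnePartners S B :=
  ⟨hA, RankOnePair_symm h.2⟩

theorem IsRankOnePair_conj_iff {g : G} : IsRankOnePair (conjBy A g) (conjBy B g) ↔ IsRankOnePair A B := by
  constructor
  · intro h
    have := IsRankOnePair_conj h g⁻¹
    rwa [conjBy_conjBy, conjBy_conjBy, inv_mul_cancel, conjBy_one, conjBy_one] at this
  · exact fun h => IsRankOnePair_conj h g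

theorem commutator_conjBy_eq_bot_iff {g : G} : ⁅conjBy A g, conjBy B g⁆ = ⊥ ↔ ⁅A, B⁆ = ⊥ := by
  rw [← conjBy_commutator, conjBy_eq_bot]

section setS

variable (hS : IsRootSubgroupSet S)
include hS

theorem conjBy_mem_iff {g : G} : conjBy A g ∈ S ↔ A ∈ S := by
  constructor
  · intro h
    have := hS.conj_mem _ h g⁻¹
    rwa [conjBy_conjBy, inv_mul_cancel, conjBy_one] at this
  · exact fun h => hS.conj_mem _ h g

theorem image_conjBy_eq (g : G) : (fun C => conjBy C g) '' S = S := by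
  ext C
  constructor
  · rintro ⟨D, hD, rfl⟩
    exact hS.conj_mem _ hD g
  · intro hC
    exact ⟨conjBy C g⁻¹, hS.conj_mem _ hC _, by
      show conjBy (conjBy C g⁻¹) g = C
      rw [conjBy_conjBy, mul_inv_cancel, conjBy_one]⟩

theorem rootCommutatorCase_conj_iff {g : G} :
    RootCommutatorCase S (conjBy A g) (conjBy B g) ↔ RootCommutatorCase S A B := by
  constructor
  · intro h
    have := rootCommutatorCase_conj hS.conj_mem h g⁻¹
    rwa [conjBy_conjBy, conjBy_conjBy, inv_mul_cancel, conjBy_one, conjBy_one] at this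
  · exact fun h => rootCommutatorCase_conj hS.conj_mem h g

theorem commutingPartners_conj_iff {g : G} :
    conjBy B g ∈ commutingPartners S (conjBy A g) ↔ B ∈ commutingPartners S A := by
  unfold commutingPartners
  simp only [Set.mem_ofPred_eq]
  rw [conjBy_mem_iff hS, commutator_conjBy_eq_bot_iff, Ne, conjBy_inj]

theorem rankOnePartners_conj_iff {g : G} :
    conjBy B g ∈ rankOnePartners S (conjBy A g) ↔ B ∈ rankOnePartners S A := by
  unfold rankOnePartners
  simp only [Set.mem_ofPred_eq]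
  rw [conjBy_mem_iff hS, IsRankOnePair_conj_iff]

theorem commutatorPartners_conj_iff {g : G} :
    conjBy B g ∈ commutatorPartners S (conjBy A g) ↔ B ∈ commutatorPartners S A := by
  unfold commutatorPartners
  simp only [Set.mem_ofPred_eq]
  rw [conjBy_mem_iff hS, ← conjBy_commutator, conjBy_mem_iff hS]

theorem mem_membersIn_conj_iff {g : G} : conjBy B g ∈ membersIn S (conjBy A g) ↔ B ∈ membersIn S A := by
  unfold membersIn
  simp only [Set.mem_ofPred_eq]
  rw [conjBy_mem_iff hS, conjBy_le_conjBy]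

theorem membersIn_conj (U : Subgroup G) (g : G) :
    membersIn S (conjBy U g) = (fun C => conjBy C g) '' membersIn S U := by
  ext C
  constructor
  · intro hC
    refine ⟨conjBy C g⁻¹, ?_, ?_⟩
    · rw [← mem_membersIn_conj_iff hS (g := g), conjBy_conjBy, mul_inv_cancel, conjBy_one]
      exact hC
    · show conjBy (conjBy C g⁻¹) g = C
      rw [conjBy_conjBy, mul_inv_cancel, conjBy_one]
  · rintro ⟨D, hD, rfl⟩
    exact (mem_membersIn_conj_iff hS).2 hD

omit hS in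
theorem isSubgroupPartition_conj {N : Subgroup G} {T : Set (Subgroup G)} (h : IsSubgroupPartition N T) (g : G) :
    IsSubgroupPartition (conjBy N g) ((fun C => conjBy C g) '' T) := by
  obtain ⟨h1, h2, h3⟩ := h
  refine ⟨?_, ?_, ?_⟩
  · rintro _ ⟨C, hC, rfl⟩
    exact conjBy_le_conjBy.2 (h1 C hC)
  · intro x hx hx1
    rw [mem_conjBy] at hx
    obtain ⟨C, hC, hxC⟩ := h2 _ hx (by
      intro h4
      apply hx1
      have h5 : x = g * (g⁻¹ * x * g) * g⁻¹ := by simp [mul_assoc]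
      rw [h5, h4]; simp)
    exact ⟨conjBy C g, ⟨C, hC, rfl⟩, mem_conjBy.2 hxC⟩
  · rintro _ ⟨C, hC, rfl⟩ _ ⟨D, hD, rfl⟩ hne
    show conjBy C g ⊓ conjBy D g = ⊥
    rw [← conjBy_inf, h3 C hC D hD (fun h => hne (by rw [h])), conjBy_bot]

theorem linePartners_conj (h : B ∈ linePartners S A) (g : G) : conjBy B g ∈ linePartners S (conjBy A g) := by
  refine ⟨(commutingPartners_conj_iff hS).2 h.1, ?_⟩
  rw [← conjBy_sup, membersIn_conj hS]
  exact isSubgroupPartition_conj h.2 g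

theorem linePartners_conj_iff {g : G} :
    conjBy B g ∈ linePartners S (conjBy A g) ↔ B ∈ linePartners S A := by
  constructor
  · intro h
    have := linePartners_conj hS h g⁻¹
    rwa [conjBy_conjBy, conjBy_conjBy, inv_mul_cancel, conjBy_one, conjBy_one] at this
  · exact fun h => linePartners_conj hS h g

theorem fAdj_conj (h : FAdj S A B) (g : G) : FAdj S (conjBy A g) (conjBy B g) :=
  ⟨hS.conj_mem _ h.1 g, hS.conj_mem _ h.2.1 g, IsRankOnePair_conj h.2.2 g⟩

theorem dAdj_conj (h : DAdj S A B) (g : G) : DAdj S (conjBy A g) (conjBy B g) :=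
  ⟨hS.conj_mem _ h.1 g, hS.conj_mem _ h.2.1 g, fun h1 => h.2.2.1 (conjBy_inj.1 h1),
    commutator_conjBy_eq_bot_iff.2 h.2.2.2⟩

theorem eAdj_conj (h : EAdj S S A B) (g : G) : EAdj S S (conjBy A g) (conjBy B g) :=
  ⟨hS.conj_mem _ h.1 g, hS.conj_mem _ h.2.1 g, linePartners_conj hS h.2.2 g⟩

/-- Elements of one member commute. -/
theorem member_comm (hA : A ∈ S) {a a' : G} (ha : a ∈ A) (ha' : a' ∈ A) : a * a' = a' * a := by
  have := (hS.commutative A hA).is_comm.comm ⟨a, ha⟩ ⟨a', ha'⟩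
  exact congrArg Subtype.val this

theorem member_exists_ne_one (hA : A ∈ S) : ∃ a ∈ A, a ≠ 1 := by
  obtain ⟨a, ha1⟩ := (Subgroup.ne_bot_iff_exists_ne_one).1 (hS.ne_bot A hA)
  exact ⟨a, a.2, fun h1 => ha1 (Subtype.ext h1)⟩

theorem member_commutator_self (hA : A ∈ S) : ⁅A, A⁆ = ⊥ :=
  commutator_eq_bot_iff_forall.2 fun _ ha _ ha' => member_comm hS hA ha ha'

/-- An element of `G` centralizing all members is central. -/
theorem mem_center_of_forall {x : G} (h : ∀ A ∈ S, ∀ a ∈ A, x * a = a * x) : x ∈ Subgroup.center G := by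
  have h1 : (⨆ A ∈ S, A) ≤ Subgroup.centralizer ({x} : Set G) := by
    refine iSup₂_le fun A hA a ha => ?_
    rw [Subgroup.mem_centralizer_iff]
    rintro _ rfl
    exact h A hA a ha
  rw [hS.generates] at h1
  rw [Subgroup.mem_center_iff]
  intro g
  exact (Subgroup.mem_centralizer_iff.1 (h1 (Subgroup.mem_top g)) x rfl).symm

/-- A property of elements closed under products and inverses and true on all members is true everywhere. -/
theorem le_of_forall_member {H : Subgroup G} (h : ∀ A ∈ S, A ≤ H) : H = ⊤ := by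
  have h1 : (⨆ A ∈ S, A) ≤ H := iSup₂_le h
  rw [hS.generates] at h1
  exact top_le_iff.1 h1

theorem normal_of_forall {N : Subgroup G} (h : ∀ A ∈ S, ∀ a ∈ A, conjBy N a = N) : N.Normal := by
  rw [← Subgroup.normalizer_eq_top_iff]
  exact le_of_forall_member hS fun A hA => le_normalizer_of_conjBy (h A hA)

/-! ### Rank one pairs among members -/

omit hS in
/-- In a rank one pair no conjugate `a b a⁻¹` (`a, b ≠ 1`) commutes with an element `≠ 1` of `B`. -/
theorem rankOne_conj_not_comm (h : IsRankOnePair A B) {a b b' : G} (ha : a ∈ A) (ha1 : a ≠ 1)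
    (hb : b ∈ B) (hb1 : b ≠ 1) (hb' : b' ∈ B) (hb1' : b' ≠ 1) : a * b * a⁻¹ * b' ≠ b' * (a * b * a⁻¹) := by
  intro hcomm
  have hBm := right_mem_unipotentSubgroups h
  have hC : conjBy B a ∈ unipotentSubgroups A B := conjBy_mem_unipotentSubgroups hBm (Subgroup.mem_sup_left ha)
  have hne : conjBy B a ≠ B := fun h1 => ha1 (rankOne_eq_one h ha h1)
  rcases rankOne_commute_elem (rankOne_pair_of_mem h hC hBm hne) (conj_mem_conjBy hb a) hb' hcomm with h1 | h1
  · apply hb1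
    have : b = a⁻¹ * (a * b * a⁻¹) * a := by simp [mul_assoc]
    rw [this, h1]; simp
  · exact hb1' h1

/-- For members `A`, `B` forming a rank one pair no commutator `a b a⁻¹ b⁻¹` (`a, b ≠ 1`) commutes with an element
`≠ 1` of `B`. -/
theorem rankOne_comm_not_comm (hB : B ∈ S) (h : IsRankOnePair A B) {a b b' : G} (ha : a ∈ A) (ha1 : a ≠ 1)
    (hb : b ∈ B) (hb1 : b ≠ 1) (hb' : b' ∈ B) (hb1' : b' ≠ 1) :
    (a * b * a⁻¹ * b⁻¹) * b' ≠ b' * (a * b * a⁻¹ * b⁻¹) := by
  intro h1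
  apply rankOne_conj_not_comm h ha ha1 hb hb1 hb' hb1'
  have h2 := member_comm hS hB hb hb'
  calc a * b * a⁻¹ * b' = (a * b * a⁻¹ * b⁻¹) * (b * b') := by simp [mul_assoc]
    _ = (a * b * a⁻¹ * b⁻¹) * b' * b := by rw [h2]; simp only [mul_assoc]
    _ = b' * (a * b * a⁻¹ * b⁻¹) * b := by rw [h1]
    _ = b' * (a * b * a⁻¹) := by simp [mul_assoc]

theorem rankOne_not_rcc (hB : B ∈ S) (h : IsRankOnePair A B) : ¬ RootCommutatorCase S A B := by
  intro hc
  obtain ⟨a, ha, ha1⟩ := rankOne_exists_left h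
  obtain ⟨b, hb, hb1⟩ := rankOne_exists_right h
  exact rankOne_comm_not_comm hS hB h ha ha1 hb hb1 hb hb1 (rcc_comm_right hc (comm_mem ha hb) hb)

/-- The commutator subgroup of a rank one pair of members is never a member. -/
theorem rankOne_commutator_not_mem (hA : A ∈ S) (hB : B ∈ S) (h : IsRankOnePair A B) : ⁅A, B⁆ ∉ S := by
  intro hC
  have hCle : ⁅A, B⁆ ≤ A ⊔ B := Subgroup.commutator_le_sup A B
  have hNA : A ≤ Subgroup.normalizer ((⁅A, B⁆ : Subgroup G) : Set G) := Subgroup.normalizer_commutator_ge_left A B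
  have hNB : B ≤ Subgroup.normalizer ((⁅A, B⁆ : Subgroup G) : Set G) := Subgroup.normalizer_commutator_ge_right A B
  have hCn : ∀ x ∈ A ⊔ B, conjBy ⁅A, B⁆ x = ⁅A, B⁆ := fun x hx =>
    mem_normalizer_iff_conjBy.1 (sup_le hNA hNB hx)
  obtain ⟨a, ha, ha1⟩ := rankOne_exists_left h
  obtain ⟨b, hb, hb1⟩ := rankOne_exists_right h
  rcases rankOne_dichotomy h hCle hCn with h1 | h1
  · -- `X = C A`
    rcases hS.pair A hA _ hC with h2 | h2 | h2
    · rw [commutator_eq_bot_iff_forall] at h2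
      apply rankOne_not_commute h
      rw [commutator_eq_bot_iff_forall]
      intro a ha b hb
      have hb' : b ∈ ⁅A, B⁆ ⊔ A := by rw [h1]; exact Subgroup.mem_sup_right hb
      have ha' : a ∈ Subgroup.centralizer ((⁅A, B⁆ ⊔ A : Subgroup G) : Set G) :=
        mem_centralizer_sup.2 ⟨fun c hc => h2 a ha c hc, fun a' ha' => member_comm hS hA ha ha'⟩
      exact (Subgroup.mem_centralizer_iff.1 ha' b hb').symm
    · exact ha1 (rankOne_eq_one h2 ha (hCn a (Subgroup.mem_sup_left ha)))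
    · have hb' : b ∈ ((A ⊔ ⁅A, B⁆ : Subgroup G) : Set G) := by
        rw [SetLike.mem_coe, sup_comm, h1]; exact Subgroup.mem_sup_right hb
      rw [Subgroup.coe_mul_of_left_le_normalizer_right A _ hNA] at hb'
      obtain ⟨a', ha', c, hc, hac⟩ := hb'
      have hz : ∀ x ∈ ⁅A, ⁅A, B⁆⁆, ∀ y ∈ A ⊔ B, x * y = y * x := by
        intro x hx y hy
        refine h2.2.1 x hx y ?_
        rwa [sup_comm, h1]
      have hmem : a * c * a⁻¹ * c⁻¹ ∈ ⁅A, ⁅A, B⁆⁆ := comm_mem ha hc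
      have h3 : a * b * a⁻¹ * b⁻¹ = a * c * a⁻¹ * c⁻¹ := by
        have h4 := hz _ hmem a' (Subgroup.mem_sup_left ha')
        have h5 := member_comm hS hA ha ha'
        have h6 : b = a' * c := hac.symm
        calc a * b * a⁻¹ * b⁻¹ = (a * a') * c * a⁻¹ * c⁻¹ * a'⁻¹ := by rw [h6]; simp [mul_assoc]
          _ = (a' * (a * c * a⁻¹ * c⁻¹)) * a'⁻¹ := by rw [h5]; simp only [mul_assoc]
          _ = a * c * a⁻¹ * c⁻¹ := by rw [← h4]; simp [mul_assoc]
      apply rankOne_comm_not_comm hS hB h ha ha1 hb hb1 hb hb1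
      rw [h3]
      exact hz _ hmem b (Subgroup.mem_sup_right hb)
  · exact rankOne_comm_not_comm hS hB h ha ha1 hb hb1 hb hb1
      ((mem_centralizer_sup.1 (h1 (comm_mem ha hb))).2 b hb)

/-- For members `A`, `B`: `⁅A, B⁆` is a member iff `(A, B)` is in the commutator case. -/
theorem commutator_mem_iff (hA : A ∈ S) (hB : B ∈ S) : ⁅A, B⁆ ∈ S ↔ RootCommutatorCase S A B := by
  constructor
  · intro h
    rcases hS.pair A hA B hB with h1 | h1 | h1
    · exact absurd (h1 ▸ rfl) (hS.ne_bot _ h)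
    · exact absurd h (rankOne_commutator_not_mem hS hA hB h1)
    · exact h1
  · exact fun h => h.1

theorem rcc_not_commute (h : RootCommutatorCase S A B) : ⁅A, B⁆ ≠ ⊥ := hS.ne_bot _ h.1

theorem rcc_ne (hA : A ∈ S) (h : RootCommutatorCase S A B) : A ≠ B := by
  rintro rfl
  exact rcc_not_commute hS h (member_commutator_self hS hA)

/-- The four mutually exclusive relations between two members. -/
theorem member_cases (hA : A ∈ S) (hB : B ∈ S) :
    B = A ∨ B ∈ commutingPartners S A ∨ B ∈ rankOnePartners S A ∨ B ∈ commutatorPartners S A := by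
  by_cases hne : B = A
  · exact Or.inl hne
  · rcases hS.pair A hA B hB with h1 | h1 | h1
    · exact Or.inr (Or.inl ⟨hB, hne, h1⟩)
    · exact Or.inr (Or.inr (Or.inl ⟨hB, h1⟩))
    · exact Or.inr (Or.inr (Or.inr ⟨hB, h1.1⟩))

theorem commutatorPartners_iff (hA : A ∈ S) : B ∈ commutatorPartners S A ↔ B ∈ S ∧ RootCommutatorCase S A B :=
  ⟨fun h => ⟨h.1, (commutator_mem_iff hS hA h.1).1 h.2⟩, fun h => ⟨h.1, h.2.1⟩⟩

/-! ### The key lemma on rank one pairs -/

/-- **Key lemma**: `(A, B)` a rank one pair of members and `c ∈ C ∈ S` acts on `B` like `1 ≠ a ∈ A`; then `(C, B)` is a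
rank one pair and `C` is one of the unipotent subgroups of `⟨A, B⟩`, more precisely a conjugate of `A` under `B`. -/
theorem rankOne_key' (hB : B ∈ S) (hC : C ∈ S) (h : IsRankOnePair A B) {a c : G} (ha : a ∈ A)
    (ha1 : a ≠ 1) (hc : c ∈ C) (hac : conjBy B c = conjBy B a) :
    IsRankOnePair C B ∧ ∃ b ∈ B, C = conjBy A b := by
  have hBm := right_mem_unipotentSubgroups h
  have hBa : conjBy B a ∈ unipotentSubgroups A B := conjBy_mem_unipotentSubgroups hBm (Subgroup.mem_sup_left ha)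
  have hne : conjBy B a ≠ B := fun h1 => ha1 (rankOne_eq_one h ha h1)
  have hc1 : c ≠ 1 := by
    rintro rfl
    rw [conjBy_one] at hac
    exact hne hac.symm
  obtain ⟨b0, hb0, hb01⟩ := rankOne_exists_right h
  have hCB : IsRankOnePair C B := by
    rcases hS.pair C hC B hB with h1 | h1 | h1
    · exfalso
      rw [commutator_eq_bot_iff_forall] at h1
      exact hne (by rw [← hac]; exact conjBy_of_commute (fun b hb => h1 c hc b hb))
    · exact h1
    · exfalso
      have h2 : c * b0 * c⁻¹ ∈ conjBy B a := by rw [← hac]; exact conj_mem_conjBy hb0 c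
      have h3 : c * b0 * c⁻¹ * b0 = b0 * (c * b0 * c⁻¹) := by
        have h4 := rcc_comm_right h1 (comm_mem hc hb0) hb0
        calc c * b0 * c⁻¹ * b0 = (c * b0 * c⁻¹ * b0⁻¹) * b0 * b0 := by simp [mul_assoc]
          _ = b0 * (c * b0 * c⁻¹) := by rw [h4]; simp [mul_assoc]
      rcases rankOne_commute_elem (rankOne_pair_of_mem h hBa hBm hne) h2 hb0 h3 with h5 | h5
      · apply hb01
        have : b0 = c⁻¹ * (c * b0 * c⁻¹) * c := by simp [mul_assoc]
        rw [this, h5]; simp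
      · exact hb01 h5
  refine ⟨hCB, ?_⟩
  obtain ⟨b, hb, -, hab⟩ := h.cond_left a⁻¹ (A.inv_mem ha) (inv_ne_one.2 ha1)
  obtain ⟨b', hb', -, hab'⟩ := hCB.cond_left c⁻¹ (C.inv_mem hc) (inv_ne_one.2 hc1)
  rw [inv_inv] at hab hab'
  refine ⟨b' * b⁻¹, B.mul_mem hb' (B.inv_mem hb), ?_⟩
  rw [← conjBy_inv_eq_iff, mul_inv_rev, inv_inv, ← conjBy_conjBy, hab', hac, ← hab, conjBy_conjBy,
    mul_inv_cancel, conjBy_one]

theorem rankOne_key (hB : B ∈ S) (hC : C ∈ S) (h : IsRankOnePair A B) {a c : G} (ha : a ∈ A)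
    (ha1 : a ≠ 1) (hc : c ∈ C) (hac : conjBy B c = conjBy B a) :
    IsRankOnePair C B ∧ C ∈ unipotentSubgroups A B := by
  obtain ⟨h1, b, hb, rfl⟩ := rankOne_key' hS hB hC h ha ha1 hc hac
  exact ⟨h1, b, Subgroup.mem_sup_right hb, rfl⟩

/-- S5025: no translate `z a` (`1 ≠ a ∈ A`, `1 ≠ z` centralizing the rank one group `⟨A, B⟩`) lies in a member. -/
theorem central_translate (hB : B ∈ S) (h : IsRankOnePair A B) {z : G}
    (hz : z ∈ Subgroup.centralizer ((A ⊔ B : Subgroup G) : Set G)) (hz1 : z ≠ 1) {a : G} (ha : a ∈ A) (ha1 : a ≠ 1)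
    (hC : C ∈ S) : z * a ∉ C := by
  intro hza
  have hBm := right_mem_unipotentSubgroups h
  have hBa : conjBy B a ∈ unipotentSubgroups A B := conjBy_mem_unipotentSubgroups hBm (Subgroup.mem_sup_left ha)
  have h1 : conjBy B (z * a) = conjBy B a := by
    rw [← conjBy_conjBy, rankOne_fix_of_centralizes hz hBa]
  obtain ⟨-, h2⟩ := rankOne_key hS hB hC h ha ha1 hza h1
  by_cases hCA : C = A
  · subst hCA
    apply hz1
    refine rankOne_centralizer_inf h h2 ?_ hz
    have := C.mul_mem hza (C.inv_mem ha)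
    simpa [mul_assoc] using this
  · have hAm := left_mem_unipotentSubgroups A B
    have h3 : conjBy A (z * a) = A := by
      rw [← conjBy_conjBy, conjBy_of_mem ha, rankOne_fix_of_centralizes hz hAm]
    have h4 := rankOne_eq_one_of_fix h h2 hAm hCA hza h3
    apply ha1
    refine rankOne_centralizer_inf h hAm ha ?_
    have h5 : a = z⁻¹ := eq_inv_of_mul_eq_one_right h4
    rw [h5]
    exact Subgroup.inv_mem _ hz

/-- S5028: a member with a rank one partner meets every other member trivially. -/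
theorem inf_eq_bot_or_eq (hA : A ∈ S) (hB : B ∈ S) (h : IsRankOnePair A B) (hC : C ∈ S) : A ⊓ C = ⊥ ∨ A = C := by
  by_cases hbot : A ⊓ C = ⊥
  · exact Or.inl hbot
  · right
    obtain ⟨a, ha1⟩ := (Subgroup.ne_bot_iff_exists_ne_one).1 hbot
    obtain ⟨haA, haC⟩ := a.2
    have ha1' : (a : G) ≠ 1 := fun h1 => ha1 (Subtype.ext h1)
    obtain ⟨-, h2⟩ := rankOne_key hS hB hC h haA ha1' haC rfl
    by_contra hne
    exact hbot (rankOne_inf_of_mem h (left_mem_unipotentSubgroups A B) h2 hne)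

theorem eq_of_mem_mem (hA : A ∈ S) (hB : B ∈ S) (h : IsRankOnePair A B) (hC : C ∈ S) {a : G} (ha : a ∈ A)
    (ha1 : a ≠ 1) (haC : a ∈ C) : A = C := by
  rcases inf_eq_bot_or_eq hS hA hB h hC with h1 | h1
  · exfalso
    apply ha1
    have : a ∈ A ⊓ C := ⟨ha, haC⟩
    rw [h1] at this
    exact Subgroup.mem_bot.1 this
  · exact h1

theorem eq_of_le (hA : A ∈ S) (hB : B ∈ S) (h : IsRankOnePair A B) (hC : C ∈ S) (hle : C ≤ A) : A = C := by
  obtain ⟨c, hc, hc1⟩ := member_exists_ne_one hS hC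
  exact eq_of_mem_mem hS hA hB h hC (hle hc) hc1 hc

/-- An element fixing (by conjugation) a non-identity element of the non-isolated member `A` normalizes `A`. -/
theorem conjBy_eq_of_fix (hA : A ∈ S) (hB : B ∈ S) (h : IsRankOnePair A B) {a g : G} (ha : a ∈ A) (ha1 : a ≠ 1)
    (hg : g * a * g⁻¹ ∈ A) : conjBy A g = A := by
  refine (eq_of_mem_mem hS hA hB h (hS.conj_mem A hA g) hg ?_ (conj_mem_conjBy ha g)).symm
  intro h1
  apply ha1
  have : a = g⁻¹ * (g * a * g⁻¹) * g := by simp [mul_assoc]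
  rw [this, h1]; simp

/-! ### Isolated vertices -/

omit hS in
theorem not_isIsolatedIn_iff (hA : A ∈ S) : ¬ IsIsolatedIn (FAdj S) S A ↔ ∃ B ∈ S, IsRankOnePair A B := by
  unfold IsIsolatedIn
  constructor
  · intro h
    by_contra hcon
    push Not at hcon
    exact h ⟨hA, fun B => ⟨fun h1 => hcon B h1.2.1 h1.2.2, fun h1 => hcon B h1.1 (RankOnePair_symm h1.2.2)⟩⟩
  · rintro ⟨B, hB, h⟩ ⟨-, h1⟩
    exact (h1 B).1 ⟨hA, hB, h⟩

/-- Having a rank one partner is invariant under conjugation. -/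
theorem exists_partner_conj (h : ∃ B ∈ S, IsRankOnePair A B) (g : G) : ∃ B ∈ S, IsRankOnePair (conjBy A g) B := by
  obtain ⟨B, hB, h⟩ := h
  exact ⟨conjBy B g, hS.conj_mem B hB g, IsRankOnePair_conj h g⟩

/-! ### The commutator case with a non-isolated member -/

/-- In the commutator case, with `A` not isolated, no `1 ≠ a ∈ A` commutes with any `1 ≠ b ∈ B`. -/
theorem rcc_commute_elem (hA : A ∈ S) (hP : ∃ A' ∈ S, IsRankOnePair A A') (h : RootCommutatorCase S A B)
    {a b : G} (ha : a ∈ A) (hb : b ∈ B) (hab : a * b = b * a) : a = 1 ∨ b = 1 := by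
  by_contra hcon
  push Not at hcon
  obtain ⟨ha1, hb1⟩ := hcon
  obtain ⟨A', hA', hAA'⟩ := hP
  have h1 : b * a * b⁻¹ ∈ A := by rw [← hab]; simpa using ha
  have h2 : conjBy A b = A := conjBy_eq_of_fix hS hA hA' hAA' ha ha1 h1
  have h3 : ⁅A, B⁆ ≤ A := by
    rw [← h.2.2.2 b hb hb1, Subgroup.closure_le]
    rintro _ ⟨a', ha', rfl⟩
    have h4 : b * a'⁻¹ * b⁻¹ ∈ A := by
      rw [← h2]; exact conj_mem_conjBy (A.inv_mem ha') b
    have h5 := A.mul_mem ha' h4
    simpa [mul_assoc] using h5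
  have h4 : A = ⁅A, B⁆ := eq_of_le hS hA hA' hAA' h.1 h3
  apply rcc_not_commute hS h
  rw [commutator_eq_bot_iff_forall]
  intro a ha b hb
  rw [h4] at ha
  exact rcc_comm_right h ha hb

/-- The same with `B` not isolated. -/
theorem rcc_commute_elem' (hB : B ∈ S) (hP : ∃ B' ∈ S, IsRankOnePair B B') (h : RootCommutatorCase S A B)
    {a b : G} (ha : a ∈ A) (hb : b ∈ B) (hab : a * b = b * a) : a = 1 ∨ b = 1 :=
  (rcc_commute_elem hS hB hP (rootCommutatorCase_symm h) hb ha hab.symm).symm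

omit hS in
/-- Injectivity of `b ↦ a b a⁻¹ b⁻¹` on `B`, for `1 ≠ a ∈ A`. -/
theorem rcc_inj_right (hcomm : ∀ a ∈ A, ∀ b ∈ B, a * b = b * a → a = 1 ∨ b = 1) (h : RootCommutatorCase S A B)
    {a b b' : G} (ha : a ∈ A) (ha1 : a ≠ 1) (hb : b ∈ B) (hb' : b' ∈ B)
    (heq : a * b * a⁻¹ * b⁻¹ = a * b' * a⁻¹ * b'⁻¹) : b = b' := by
  have h1 := rcc_comm_mul_right h ha hb (B.inv_mem hb')
  have h2 := rcc_comm_mul_right h ha hb' (B.inv_mem hb')
  rw [mul_inv_cancel, ← heq, ← h1] at h2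
  have h3 : a * (b * b'⁻¹) * a⁻¹ * (b * b'⁻¹)⁻¹ = 1 := by rw [← h2]; simp
  have h4 : a * (b * b'⁻¹) = (b * b'⁻¹) * a := by
    rw [mul_inv_eq_one, mul_inv_eq_iff_eq_mul] at h3
    exact h3
  rcases hcomm a ha _ (B.mul_mem hb (B.inv_mem hb')) h4 with h5 | h5
  · exact absurd h5 ha1
  · exact mul_inv_eq_one.1 h5

omit hS in
/-- Injectivity of `a ↦ a b a⁻¹ b⁻¹` on `A`, for `1 ≠ b ∈ B`. -/
theorem rcc_inj_left (hcomm : ∀ a ∈ A, ∀ b ∈ B, a * b = b * a → a = 1 ∨ b = 1) (h : RootCommutatorCase S A B)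
    {a a' b : G} (ha : a ∈ A) (ha' : a' ∈ A) (hb : b ∈ B) (hb1 : b ≠ 1)
    (heq : a * b * a⁻¹ * b⁻¹ = a' * b * a'⁻¹ * b⁻¹) : a = a' := by
  have h1 := rcc_comm_mul_left h ha (A.inv_mem ha') hb
  have h2 := rcc_comm_mul_left h ha' (A.inv_mem ha') hb
  rw [mul_inv_cancel, ← heq, ← h1] at h2
  have h3 : (a * a'⁻¹) * b * (a * a'⁻¹)⁻¹ * b⁻¹ = 1 := by rw [← h2]; simp
  have h4 : (a * a'⁻¹) * b = b * (a * a'⁻¹) := by
    rw [mul_inv_eq_one, mul_inv_eq_iff_eq_mul] at h3
    exact h3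
  rcases hcomm _ (A.mul_mem ha (A.inv_mem ha')) b hb h4 with h5 | h5
  · exact mul_inv_eq_one.1 h5
  · exact absurd h5 hb1

omit hS in
/-- `conjBy A b ≤ A ⁅A, B⁆` for `b ∈ B`. -/
theorem conjBy_le_sup_commutator {b : G} (hb : b ∈ B) : conjBy A b ≤ A ⊔ ⁅A, B⁆ := by
  rintro _ ⟨a, ha, rfl⟩
  show b * a * b⁻¹ ∈ A ⊔ ⁅A, B⁆
  have h1 : b * a * b⁻¹ = (b * a * b⁻¹ * a⁻¹) * a := by simp [mul_assoc]
  rw [h1]
  refine Subgroup.mul_mem _ (Subgroup.mem_sup_right ?_) (Subgroup.mem_sup_left ha)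
  rw [Subgroup.commutator_comm]
  exact comm_mem hb ha

omit hS in
theorem mem_sup_of_commute {A C : Subgroup G} (hAC : ∀ a ∈ A, ∀ c ∈ C, a * c = c * a) {x : G} :
    x ∈ A ⊔ C ↔ ∃ a ∈ A, ∃ c ∈ C, x = a * c := by
  constructor
  · intro hx
    have hle : A ≤ Subgroup.normalizer (C : Set G) := by
      refine le_normalizer_of_conjBy fun a ha => ?_
      exact conjBy_of_commute fun c hc => hAC a ha c hc
    have hx' : x ∈ ((A ⊔ C : Subgroup G) : Set G) := hx
    rw [Subgroup.coe_mul_of_left_le_normalizer_right A C hle] at hx'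
    obtain ⟨a, ha, c, hc, rfl⟩ := hx'
    exact ⟨a, ha, c, hc, rfl⟩
  · rintro ⟨a, ha, c, hc, rfl⟩
    exact Subgroup.mul_mem_sup ha hc

omit hS in
theorem mem_sup_commutator (h : RootCommutatorCase S A B) {x : G} :
    x ∈ A ⊔ ⁅A, B⁆ ↔ ∃ a ∈ A, ∃ c ∈ ⁅A, B⁆, x = a * c :=
  mem_sup_of_commute fun _ ha _ hc => (rcc_comm_left h hc ha).symm

omit hS in
/-- The elements `a c` with `1 ≠ a ∈ A`, `c ∈ ⁅A, B⁆` lie in conjugates of `A` under `B`. -/
theorem mul_mem_conjBy (h : RootCommutatorCase S A B) {a c : G} (ha : a ∈ A) (ha1 : a ≠ 1) (hc : c ∈ ⁅A, B⁆) :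
    ∃ b ∈ B, a * c ∈ conjBy A b := by
  obtain ⟨b, hb, h1⟩ := rcc_exists_right h ha ha1 (Subgroup.inv_mem _ hc)
  refine ⟨b, hb, ?_⟩
  have h2 : c = b * a * b⁻¹ * a⁻¹ := by
    rw [← inv_inj, ← h1]; simp [mul_assoc]
  have h3 : a * c = b * a * b⁻¹ := by
    rw [← rcc_comm_left h hc ha, h2]; simp [mul_assoc]
  rw [h3]
  exact conj_mem_conjBy ha b

theorem rcc_ne_commutator (h : RootCommutatorCase S A B) : A ≠ ⁅A, B⁆ := by
  intro h1
  apply rcc_not_commute hS h
  rw [commutator_eq_bot_iff_forall]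
  intro a ha b hb
  rw [h1] at ha
  exact rcc_comm_right h ha hb

theorem rcc_inf_commutator (hA : A ∈ S) (hP : ∃ A' ∈ S, IsRankOnePair A A') (h : RootCommutatorCase S A B) :
    A ⊓ ⁅A, B⁆ = ⊥ := by
  obtain ⟨A', hA', hAA'⟩ := hP
  rcases inf_eq_bot_or_eq hS hA hA' hAA' h.1 with h1 | h1
  · exact h1
  · exact absurd h1 (rcc_ne_commutator hS h)

/-- A member contained in `⁅A, B⁆` is `⁅A, B⁆` (`A` not isolated). -/
theorem rcc_le_commutator_eq (hA : A ∈ S) (hP : ∃ A' ∈ S, IsRankOnePair A A') (h : RootCommutatorCase S A B)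
    (hD : D ∈ S) (hle : D ≤ ⁅A, B⁆) : D = ⁅A, B⁆ := by
  obtain ⟨A', hA', hAA'⟩ := hP
  rcases hS.pair _ h.1 A' hA' with h1 | h1 | h1
  · exfalso
    obtain ⟨a, ha, ha1⟩ := member_exists_ne_one hS hA
    obtain ⟨c, hc, hc1⟩ := member_exists_ne_one hS h.1
    rw [commutator_eq_bot_iff_forall] at h1
    have hz : c ∈ Subgroup.centralizer ((A ⊔ A' : Subgroup G) : Set G) :=
      mem_centralizer_sup.2 ⟨fun a ha => rcc_comm_left h hc ha, fun a' ha' => h1 c hc a' ha'⟩
    obtain ⟨b, hb, hab⟩ := mul_mem_conjBy h ha ha1 hc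
    rw [← rcc_comm_left h hc ha] at hab
    exact central_translate hS hA' hAA' hz hc1 ha ha1 (hS.conj_mem A hA b) hab
  · exact (eq_of_le hS h.1 hA' h1 hD hle).symm
  · obtain ⟨d, hd, hd1⟩ := member_exists_ne_one hS hD
    obtain ⟨a', ha', ha1'⟩ := member_exists_ne_one hS hA'
    have h2 : ⁅D, A'⁆ = ⁅⁅A, B⁆, A'⁆ := by
      apply le_antisymm
      · exact Subgroup.commutator_mono hle le_rfl
      · conv_lhs => rw [← h1.2.2.1 d (hle hd) hd1]
        rw [Subgroup.closure_le]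
        rintro _ ⟨x, hx, rfl⟩
        exact comm_mem hd hx
    have h3 : RootCommutatorCase S D A' := (commutator_mem_iff hS hD hA').1 (by rw [h2]; exact h1.1)
    apply le_antisymm hle
    intro c hc
    have h4 : c * a' * c⁻¹ * a'⁻¹ ∈ ⁅D, A'⁆ := by rw [h2]; exact comm_mem hc ha'
    obtain ⟨d', hd', h5⟩ := rcc_exists_left h3 ha' ha1' h4
    have hcomm := fun x hx y hy hxy => rcc_commute_elem' (a := x) (b := y) hS hA' ⟨A, hA, RankOnePair_symm hAA'⟩ h1
      hx hy hxy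
    have h6 := rcc_inj_left hcomm h1 (hle hd') hc ha' ha1' h5
    rwa [← h6]

/-- S5029, first part: the members inside `A ⁅A, B⁆`. -/
theorem rcc_membersIn (hA : A ∈ S) (hP : ∃ A' ∈ S, IsRankOnePair A A') (h : RootCommutatorCase S A B) :
    membersIn S (A ⊔ ⁅A, B⁆) = (fun b : G => conjBy A b) '' (B : Set G) ∪ {⁅A, B⁆} := by
  ext D
  constructor
  · rintro ⟨hD, hle⟩
    by_cases hDC : D ≤ ⁅A, B⁆
    · right
      exact rcc_le_commutator_eq hS hA hP h hD hDC
    · left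
      obtain ⟨d, hd, hdC⟩ := SetLike.not_le_iff_exists.1 hDC
      obtain ⟨a, ha, c, hc, rfl⟩ := (mem_sup_commutator h).1 (hle hd)
      have ha1 : a ≠ 1 := by
        rintro rfl
        rw [one_mul] at hdC
        exact hdC hc
      obtain ⟨b, hb, hab⟩ := mul_mem_conjBy h ha ha1 hc
      obtain ⟨E, hE, hAE⟩ := exists_partner_conj hS hP b
      refine ⟨b, hb, eq_of_mem_mem hS (hS.conj_mem A hA b) hE hAE hD hab ?_ hd⟩
      intro h1
      rw [h1] at hdC
      exact hdC (Subgroup.one_mem _)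
  · rintro (⟨b, hb, rfl⟩ | hD)
    · exact ⟨hS.conj_mem A hA b, conjBy_le_sup_commutator hb⟩
    · rw [Set.mem_singleton_iff] at hD
      rw [hD]
      exact ⟨h.1, le_sup_right⟩

/-- S5029, second part: they form a partition. -/
theorem rcc_partition (hA : A ∈ S) (hP : ∃ A' ∈ S, IsRankOnePair A A') (h : RootCommutatorCase S A B) :
    IsSubgroupPartition (A ⊔ ⁅A, B⁆) (membersIn S (A ⊔ ⁅A, B⁆)) := by
  refine ⟨fun D hD => hD.2, ?_, ?_⟩
  · intro x hx hx1
    obtain ⟨a, ha, c, hc, rfl⟩ := (mem_sup_commutator h).1 hx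
    by_cases ha1 : a = 1
    · refine ⟨⁅A, B⁆, ⟨h.1, le_sup_right⟩, ?_⟩
      rw [ha1, one_mul]; exact hc
    · obtain ⟨b, hb, hab⟩ := mul_mem_conjBy h ha ha1 hc
      exact ⟨conjBy A b, ⟨hS.conj_mem A hA b, conjBy_le_sup_commutator hb⟩, hab⟩
  · have key : ∀ b ∈ B, ∀ D ∈ S, conjBy A b ≠ D → conjBy A b ⊓ D = ⊥ := by
      intro b hb D hD hne
      obtain ⟨E, hE, hAE⟩ := exists_partner_conj hS hP b
      rcases inf_eq_bot_or_eq hS (hS.conj_mem A hA b) hE hAE hD with h1 | h1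
      · exact h1
      · exact absurd h1 hne
    intro D hD E hE hne
    have hDS := hD.1
    have hES := hE.1
    rw [rcc_membersIn hS hA hP h] at hD hE
    rcases hD with ⟨b, hb, rfl⟩ | hD
    · exact key b hb E hES hne
    · rcases hE with ⟨b, hb, rfl⟩ | hE
      · rw [inf_comm]
        exact key b hb D hDS hne.symm
      · rw [Set.mem_singleton_iff] at hD hE
        exact absurd (hD.trans hE.symm) hne

/-- S5029, third part: `A` is a line partner of `⁅A, B⁆`. -/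
theorem rcc_linePartners (hA : A ∈ S) (hP : ∃ A' ∈ S, IsRankOnePair A A') (h : RootCommutatorCase S A B) :
    A ∈ linePartners S ⁅A, B⁆ := by
  refine ⟨⟨hA, rcc_ne_commutator hS h, ?_⟩, ?_⟩
  · rw [commutator_eq_bot_iff_forall]
    intro c hc a ha
    exact rcc_comm_left h hc ha
  · rw [sup_comm]
    exact rcc_partition hS hA hP h

/-! ### Components of the graph of rank one pairs -/

omit hS in
theorem reach_symm {A B : Subgroup G} (h : Relation.ReflTransGen (FAdj S) A B) :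
    Relation.ReflTransGen (FAdj S) B A := by
  induction h with
  | refl => exact Relation.ReflTransGen.refl
  | tail _ h2 ih => exact Relation.ReflTransGen.head (fAdj_symm h2) ih

omit hS in
theorem reach_mem {A B : Subgroup G} (hA : A ∈ S) (h : Relation.ReflTransGen (FAdj S) A B) : B ∈ S := by
  induction h with
  | refl => exact hA
  | tail _ h2 _ => exact h2.2.1

theorem reach_conj {A B : Subgroup G} (h : Relation.ReflTransGen (FAdj S) A B) (g : G) :
    Relation.ReflTransGen (FAdj S) (conjBy A g) (conjBy B g) := by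
  induction h with
  | refl => exact Relation.ReflTransGen.refl
  | tail _ h2 ih => exact ih.tail (fAdj_conj hS h2 g)

theorem reach_conj_iff {A B : Subgroup G} {g : G} :
    Relation.ReflTransGen (FAdj S) (conjBy A g) (conjBy B g) ↔ Relation.ReflTransGen (FAdj S) A B := by
  constructor
  · intro h
    have := reach_conj hS h g⁻¹
    rwa [conjBy_conjBy, conjBy_conjBy, inv_mul_cancel, conjBy_one, conjBy_one] at this
  · exact fun h => reach_conj hS h g

omit hS in
theorem self_mem_componentOf (hA : A ∈ S) : A ∈ componentOf (FAdj S) S A := ⟨hA, Relation.ReflTransGen.refl⟩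

omit hS in
theorem componentOf_eq_of_mem (h : B ∈ componentOf (FAdj S) S A) :
    componentOf (FAdj S) S B = componentOf (FAdj S) S A := by
  ext C
  exact ⟨fun hC => ⟨hC.1, h.2.trans hC.2⟩, fun hC => ⟨hC.1, (reach_symm h.2).trans hC.2⟩⟩

omit hS in
theorem componentOf_eq_iff (hB : B ∈ S) :
    componentOf (FAdj S) S A = componentOf (FAdj S) S B ↔ Relation.ReflTransGen (FAdj S) A B := by
  constructor
  · intro h
    have : B ∈ componentOf (FAdj S) S A := by rw [h]; exact self_mem_componentOf hB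
    exact this.2
  · intro h
    exact (componentOf_eq_of_mem ⟨hB, h⟩).symm

theorem componentOf_conj (g : G) :
    componentOf (FAdj S) S (conjBy A g) = (fun C => conjBy C g) '' componentOf (FAdj S) S A := by
  ext C
  constructor
  · rintro ⟨hC, h⟩
    refine ⟨conjBy C g⁻¹, ⟨hS.conj_mem C hC _, ?_⟩, ?_⟩
    · have := reach_conj hS h g⁻¹
      rwa [conjBy_conjBy, inv_mul_cancel, conjBy_one] at this
    · show conjBy (conjBy C g⁻¹) g = C
      rw [conjBy_conjBy, mul_inv_cancel, conjBy_one]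
  · rintro ⟨D, ⟨hD, h⟩, rfl⟩
    exact ⟨hS.conj_mem D hD g, reach_conj hS h g⟩

/-- Conjugation by an element normalizing a member of the component fixes the component. -/
theorem componentOf_stable {g : G} (hB : B ∈ componentOf (FAdj S) S A) (hg : conjBy B g = B)
    (hC : C ∈ componentOf (FAdj S) S A) : conjBy C g ∈ componentOf (FAdj S) S A := by
  rw [← componentOf_eq_of_mem hB] at hC ⊢
  have := reach_conj hS hC.2 g
  rw [hg] at this
  exact ⟨hS.conj_mem C hC.1 g, this⟩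

omit hS in
/-- Members of the same component are conjugate under the subgroup generated by the component. -/
theorem reach_exists_conj {A B : Subgroup G} (hA : A ∈ S) (h : Relation.ReflTransGen (FAdj S) A B) :
    ∃ g ∈ ⨆ C ∈ componentOf (FAdj S) S A, C, B = conjBy A g := by
  have hle : ∀ C, C ∈ S → Relation.ReflTransGen (FAdj S) A C → C ≤ ⨆ C ∈ componentOf (FAdj S) S A, C := by
    intro C hC h1
    exact le_iSup₂_of_le C ⟨hC, h1⟩ le_rfl
  induction h with
  | refl => exact ⟨1, Subgroup.one_mem _, (conjBy_one A).symm⟩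
  | @tail B C h1 h2 ih =>
    obtain ⟨g, hg, rfl⟩ := ih
    obtain ⟨x, hx, hxC⟩ := right_mem_unipotentSubgroups h2.2.2
    refine ⟨x * g, Subgroup.mul_mem _ ?_ hg, by rw [hxC, conjBy_conjBy]⟩
    exact (sup_le (hle _ h2.1 h1) (hle _ h2.2.1 (h1.tail h2))) hx

omit hS in
theorem reach_exists_conj' {A B : Subgroup G} (h : Relation.ReflTransGen (FAdj S) A B) : ∃ g : G, B = conjBy A g := by
  induction h with
  | refl => exact ⟨1, (conjBy_one A).symm⟩
  | @tail B C h1 h2 ih =>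
    obtain ⟨g, rfl⟩ := ih
    obtain ⟨x, hx, hxC⟩ := right_mem_unipotentSubgroups h2.2.2
    exact ⟨x * g, by rw [hxC, conjBy_conjBy]⟩

omit hS in
theorem fAdj_reach (hA : A ∈ S) (hB : B ∈ S) (h : IsRankOnePair A B) : Relation.ReflTransGen (FAdj S) A B :=
  Relation.ReflTransGen.single ⟨hA, hB, h⟩

omit hS in
/-- A member of a component with more than one member has a rank one partner. -/
theorem exists_partner_of_component (h : ∃ A' ∈ componentOf (FAdj S) S A, A' ≠ A) : ∃ B ∈ S, IsRankOnePair A B := by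
  obtain ⟨A', ⟨-, h⟩, hne⟩ := h
  rcases Relation.ReflTransGen.cases_head h with h1 | ⟨B, h1, -⟩
  · exact absurd h1.symm hne
  · exact ⟨B, h1.2.1, h1.2.2⟩

/-! ### Products of commuting root elements -/

/-- `(A, A')` a rank one pair of members, `B` a member commuting with `A` and not a rank one partner of `A'`;
if `1 ≠ a ∈ A`, `b ∈ B` and `a b` lies in the member `D` then `(D, A')` is a rank one pair. -/
theorem mul_mem_rankOne {A' : Subgroup G} (hA' : A' ∈ S) (hB : B ∈ S) (hD : D ∈ S) (h : IsRankOnePair A A')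
    (hAB : ∀ a ∈ A, ∀ b ∈ B, a * b = b * a) (hnot : ¬ IsRankOnePair A' B) {a b : G} (ha : a ∈ A) (ha1 : a ≠ 1)
    (hb : b ∈ B) (hab : a * b ∈ D) : IsRankOnePair D A' := by
  -- `b x b⁻¹ x⁻¹` commutes with `A'` for `x ∈ A'`
  have hcomm : ∀ x ∈ A', ∀ y ∈ A', (b * x * b⁻¹ * x⁻¹) * y = y * (b * x * b⁻¹ * x⁻¹) := by
    intro x hx y hy
    rcases hS.pair A' hA' B hB with h1 | h1 | h1
    · rw [commutator_eq_bot_iff_forall] at h1
      rw [← h1 x hx b hb]; simp
    · exact absurd h1 hnot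
    · have h2 : b * x * b⁻¹ * x⁻¹ ∈ ⁅A', B⁆ := by
        rw [Subgroup.commutator_comm]; exact comm_mem hb hx
      exact rcc_comm_left h1 h2 hy
  obtain ⟨a', ha', -, h1⟩ := h.cond_left a⁻¹ (A.inv_mem ha) (inv_ne_one.2 ha1)
  rw [inv_inv] at h1
  -- `conjBy A' (a b)` is again opposite to `A'`
  have hbA : conjBy A b⁻¹ = A := conjBy_of_commute fun x hx => (hAB x hx _ (B.inv_mem hb)).symm
  have h2 : conjBy A' (a * b) = conjBy (conjBy A a'⁻¹) (b * a'⁻¹ * b⁻¹ * a') := by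
    rw [hAB a ha b hb, ← conjBy_conjBy, ← h1, conjBy_conjBy, conjBy_conjBy]
    have h3 : b * a'⁻¹ * b⁻¹ * a' * a'⁻¹ = b * a'⁻¹ * b⁻¹ := by simp [mul_assoc]
    rw [h3, ← conjBy_conjBy A (b * a'⁻¹) b⁻¹, hbA]
  have he : ∀ y ∈ A', (b * a'⁻¹ * b⁻¹ * a') * y = y * (b * a'⁻¹ * b⁻¹ * a') := by
    intro y hy
    have := hcomm a'⁻¹ (A'.inv_mem ha') y hy
    rwa [inv_inv] at this
  have h3 : IsRankOnePair (conjBy A' (a * b)) A' := by
    rw [h2]
    have h4 := IsRankOnePair_conj (IsRankOnePair_conj h a'⁻¹) (b * a'⁻¹ * b⁻¹ * a')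
    rwa [conjBy_of_mem (A := A') (A'.inv_mem ha'), conjBy_of_commute he] at h4
  rcases hS.pair D hD A' hA' with h4 | h4 | h4
  · exfalso
    rw [commutator_eq_bot_iff_forall] at h4
    exact h3.ne (conjBy_of_commute fun x hx => h4 _ hab x hx)
  · exact h4
  · exfalso
    apply rankOne_not_commute h3
    rw [commutator_eq_bot_iff_forall]
    rintro _ ⟨x, hx, rfl⟩ y hy
    show (a * b) * x * (a * b)⁻¹ * y = y * ((a * b) * x * (a * b)⁻¹)
    have h5 := rcc_comm_right h4 (comm_mem hab hx) hy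
    have h6 := member_comm hS hA' hx hy
    calc (a * b) * x * (a * b)⁻¹ * y = ((a * b) * x * (a * b)⁻¹ * x⁻¹) * (x * y) := by simp [mul_assoc]
      _ = ((a * b) * x * (a * b)⁻¹ * x⁻¹) * y * x := by rw [h6]; simp only [mul_assoc]
      _ = y * ((a * b) * x * (a * b)⁻¹ * x⁻¹) * x := by rw [h5]
      _ = y * ((a * b) * x * (a * b)⁻¹) := by simp [mul_assoc]

/-- Two commuting non-isolated members `A`, `B` such that some `a b` (`a, b ≠ 1`) lies in a member are in the same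
component. -/
theorem reach_of_mul_mem (hA : A ∈ S) (hB : B ∈ S) (hD : D ∈ S) (hPA : ∃ A' ∈ S, IsRankOnePair A A')
    (hPB : ∃ B' ∈ S, IsRankOnePair B B') (hAB : ∀ a ∈ A, ∀ b ∈ B, a * b = b * a) {a b : G} (ha : a ∈ A)
    (ha1 : a ≠ 1) (hb : b ∈ B) (hb1 : b ≠ 1) (hab : a * b ∈ D) : Relation.ReflTransGen (FAdj S) A B := by
  obtain ⟨A', hA', hAA'⟩ := hPA
  obtain ⟨B', hB', hBB'⟩ := hPB
  by_cases h1 : IsRankOnePair A' B
  · exact (fAdj_reach hA hA' hAA').trans (fAdj_reach hA' hB h1)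
  by_cases h2 : IsRankOnePair B' A
  · exact reach_symm ((fAdj_reach hB hB' hBB').trans (fAdj_reach hB' hA h2))
  have h3 := mul_mem_rankOne hS hA' hB hD hAA' hAB h1 ha ha1 hb hab
  have h4 := mul_mem_rankOne hS hB' hA hD hBB' (fun b hb a ha => (hAB a ha b hb).symm) h2 hb hb1 ha
    (by rw [← hAB a ha b hb]; exact hab)
  exact ((fAdj_reach hA hA' hAA').trans (reach_symm (fAdj_reach hD hA' h3))).trans
    ((fAdj_reach hD hB' h4).trans (reach_symm (fAdj_reach hB hB' hBB')))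

/-- Line partners which are both non-isolated lie in the same component. -/
theorem reach_of_linePartners (hA : A ∈ S) (hPA : ∃ A' ∈ S, IsRankOnePair A A')
    (hPB : ∃ B' ∈ S, IsRankOnePair B B') (h : B ∈ linePartners S A) : Relation.ReflTransGen (FAdj S) A B := by
  obtain ⟨⟨hB, hne, hAB⟩, -, h2, -⟩ := h
  rw [commutator_eq_bot_iff_forall] at hAB
  obtain ⟨a, ha, ha1⟩ := member_exists_ne_one hS hA
  obtain ⟨b, hb, hb1⟩ := member_exists_ne_one hS hB
  obtain ⟨D, ⟨hD, -⟩, hab⟩ := h2 (a * b) (Subgroup.mul_mem_sup ha hb) (by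
    intro h3
    apply hne
    obtain ⟨A', hA', hAA'⟩ := hPA
    have h4 : a = b⁻¹ := eq_inv_of_mul_eq_one_left h3
    exact (eq_of_mem_mem hS hA hA' hAA' hB ha ha1 (by rw [h4]; exact B.inv_mem hb)).symm)
  exact reach_of_mul_mem hS hA hB hD hPA hPB hAB ha ha1 hb hb1 hab

end setS

end Cfsg.Agent.H733
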