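/-
Abstract root subgroups: components without isolated vertices, connectedness, images (helper733, S5032, S5035).
-/
import Cfsg.Agent.H733.RootBasics
set_option linter.all false

set_option autoImplicit false
open Cfsg Cfsg.Agent.H731

namespace Cfsg.Agent.H733

variable {G : Type*} [Group G] {S : Set (Subgroup G)} {A B C D : Subgroup G}

section setS

variable (hS : IsRootSubgroupSet S)
include hS

/-- If there are no isolated vertices, two members are in the same component or commute. -/
theorem reach_or_commute (hF : ∀ A ∈ S, ∃ B ∈ S, IsRankOnePair A B) (hA : A ∈ S) (hB : B ∈ S) :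
    Relation.ReflTransGen (FAdj S) A B ∨ ⁅A, B⁆ = ⊥ := by
  rcases hS.pair A hA B hB with h | h | h
  · exact Or.inr h
  · exact Or.inl (fAdj_reach hA hB h)
  · left
    have h1 : A ∈ linePartners S ⁅A, B⁆ := rcc_linePartners hS hA (hF A hA) h
    have h2 : B ∈ linePartners S ⁅B, A⁆ := rcc_linePartners hS hB (hF B hB) (rootCommutatorCase_symm h)
    rw [Subgroup.commutator_comm] at h2
    have h3 := reach_of_linePartners hS h.1 (hF _ h.1) (hF A hA) h1
    have h4 := reach_of_linePartners hS h.1 (hF _ h.1) (hF B hB) h2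
    exact (reach_symm h3).trans h4

/-- If there are no isolated vertices, every conjugate of `A` lies in the component of `A`. -/
theorem reach_conjBy (hF : ∀ A ∈ S, ∃ B ∈ S, IsRankOnePair A B) (hA : A ∈ S) (g : G) :
    Relation.ReflTransGen (FAdj S) A (conjBy A g) := by
  let H : Subgroup G :=
    { carrier := {g | Relation.ReflTransGen (FAdj S) A (conjBy A g)}
      one_mem' := by
        show Relation.ReflTransGen (FAdj S) A (conjBy A 1)
        rw [conjBy_one]
      mul_mem' := by
        intro x y hx hy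
        show Relation.ReflTransGen (FAdj S) A (conjBy A (x * y))
        have h1 := reach_conj hS hy x
        rw [conjBy_conjBy] at h1
        exact Relation.ReflTransGen.trans hx h1
      inv_mem' := by
        intro x hx
        show Relation.ReflTransGen (FAdj S) A (conjBy A x⁻¹)
        have h1 := reach_conj hS hx x⁻¹
        rw [conjBy_conjBy, inv_mul_cancel, conjBy_one] at h1
        exact reach_symm h1 }
  have hH : H = ⊤ := by
    refine le_of_forall_member hS fun B hB b hb => ?_
    show Relation.ReflTransGen (FAdj S) A (conjBy A b)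
    rcases reach_or_commute hS hF hA hB with h | h
    · have h1 := reach_conj hS h b
      rw [conjBy_of_mem hb] at h1
      exact h.trans (reach_symm h1)
    · rw [commutator_eq_bot_iff_forall] at h
      rw [conjBy_of_commute (fun a ha => (h a ha b hb).symm)]
  have : g ∈ H := by rw [hH]; exact Subgroup.mem_top g
  exact this

/-- S5032, the substantial direction. -/
theorem connected_of_class (hcl : IsConjClassOfSubgroups S) (hP : ∃ A ∈ S, ∃ B ∈ S, IsRankOnePair A B) :
    IsConnectedFamily (FAdj S) S := by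
  have hF : ∀ A ∈ S, ∃ B ∈ S, IsRankOnePair A B := by
    intro A hA
    obtain ⟨C, hC, hCP⟩ := hP
    obtain ⟨g, rfl⟩ := hcl.2 C hC A hA
    exact exists_partner_conj hS hCP g
  intro A hA B hB
  obtain ⟨g, rfl⟩ := hcl.2 A hA B hB
  exact reach_conjBy hS hF hA g

omit hS in
theorem class_of_connected (h2 : ∃ A ∈ S, ∃ B ∈ S, A ≠ B) (hc : IsConnectedFamily (FAdj S) S) :
    IsConjClassOfSubgroups S ∧ ∃ A ∈ S, ∃ B ∈ S, IsRankOnePair A B := by
  obtain ⟨A, hA, B, hB, hne⟩ := h2
  refine ⟨⟨⟨A, hA⟩, fun C hC D hD => reach_exists_conj' (hc C hC D hD)⟩, A, hA, ?_⟩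
  exact exists_partner_of_component ⟨B, ⟨hB, hc A hA B hB⟩, hne.symm⟩

/-- In a class of abstract root subgroups with a rank one pair every member has a partner. -/
theorem class_exists_partner (hcl : IsConjClassOfSubgroups S) (hP : ∃ A ∈ S, ∃ B ∈ S, IsRankOnePair A B)
    (hA : A ∈ S) : ∃ B ∈ S, IsRankOnePair A B := by
  obtain ⟨C, hC, hCP⟩ := hP
  obtain ⟨g, rfl⟩ := hcl.2 C hC A hA
  exact exists_partner_conj hS hCP g

/-! ### Homomorphic images -/

theorem image_rootSubgroupSet {H : Type*} [Group H] (f : G →* H) (hf : Function.Surjective f)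
    (hne : ∀ A ∈ S, A.map f ≠ ⊥) : IsRootSubgroupSet ((fun A : Subgroup G => A.map f) '' S) where
  commutative := by
    rintro _ ⟨A, hA, rfl⟩
    show IsMulCommutative ↥(A.map f)
    rw [← Subgroup.commutator_self_eq_bot_iff, ← Subgroup.map_commutator, member_commutator_self hS hA,
      Subgroup.map_bot]
  ne_bot := by
    rintro _ ⟨A, hA, rfl⟩
    exact hne A hA
  generates := by
    rw [eq_top_iff]
    have h1 : (⨆ A ∈ S, A).map f = ⊤ := by
      rw [hS.generates]
      exact Subgroup.map_top_of_surjective f hf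
    rw [← h1, Subgroup.map_le_iff_le_comap]
    refine iSup₂_le fun A hA => ?_
    rw [← Subgroup.map_le_iff_le_comap]
    exact le_iSup₂_of_le (A.map f) ⟨A, hA, rfl⟩ le_rfl
  conj_mem := by
    rintro _ ⟨A, hA, rfl⟩ h
    obtain ⟨g, rfl⟩ := hf h
    exact ⟨conjBy A g, hS.conj_mem A hA g, map_conjBy f A g⟩
  pair := by
    rintro _ ⟨A, hA, rfl⟩ _ ⟨B, hB, rfl⟩
    show ⁅A.map f, B.map f⁆ = ⊥ ∨ IsRankOnePair (A.map f) (B.map f) ∨ _
    by_cases hAB : A.map f = B.map f
    · left
      rw [← hAB, ← Subgroup.map_commutator, member_commutator_self hS hA, Subgroup.map_bot]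
    rcases hS.pair A hA B hB with h | h | h
    · left
      rw [← Subgroup.map_commutator, h, Subgroup.map_bot]
    · right; left
      exact IsRankOnePair_map h f hAB
    · right; right
      obtain ⟨h1, h2, h3, h4⟩ := h
      refine ⟨⟨⁅A, B⁆, h1, Subgroup.map_commutator _ _ _⟩, ?_, ?_, ?_⟩
      · intro c hc x hx
        rw [← Subgroup.map_commutator] at hc
        rw [← Subgroup.map_sup] at hx
        obtain ⟨c, hc, rfl⟩ := hc
        obtain ⟨x, hx, rfl⟩ := hx
        rw [← map_mul, h2 c hc x hx, map_mul]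
      · rintro _ ⟨a, ha, rfl⟩ ha1
        have ha1' : a ≠ 1 := by rintro rfl; exact ha1 (map_one f)
        rw [← Subgroup.map_commutator, ← h3 a ha ha1', MonoidHom.map_closure]
        congr 1
        ext x
        constructor
        · rintro ⟨_, ⟨b, hb, rfl⟩, rfl⟩
          exact ⟨a * b * a⁻¹ * b⁻¹, ⟨b, hb, rfl⟩, by simp⟩
        · rintro ⟨_, ⟨b, hb, rfl⟩, rfl⟩
          exact ⟨f b, ⟨b, hb, rfl⟩, by simp⟩
      · rintro _ ⟨b, hb, rfl⟩ hb1
        have hb1' : b ≠ 1 := by rintro rfl; exact hb1 (map_one f)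
        rw [← Subgroup.map_commutator, ← h4 b hb hb1', MonoidHom.map_closure]
        congr 1
        ext x
        constructor
        · rintro ⟨_, ⟨a, ha, rfl⟩, rfl⟩
          exact ⟨a * b * a⁻¹ * b⁻¹, ⟨a, ha, rfl⟩, by simp⟩
        · rintro ⟨_, ⟨a, ha, rfl⟩, rfl⟩
          exact ⟨f a, ⟨a, ha, rfl⟩, by simp⟩

omit hS in
theorem image_reach {H : Type*} [Group H] (f : G →* H) {A B : Subgroup G}
    (h : Relation.ReflTransGen (FAdj S) A B) :
    Relation.ReflTransGen (FAdj ((fun A : Subgroup G => A.map f) '' S)) (A.map f) (B.map f) := by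
  induction h with
  | refl => exact Relation.ReflTransGen.refl
  | @tail B C h1 h2 ih =>
    by_cases h3 : B.map f = C.map f
    · rw [← h3]; exact ih
    · exact ih.tail ⟨⟨B, h2.1, rfl⟩, ⟨C, h2.2.1, rfl⟩, IsRankOnePair_map h2.2.2 f h3⟩

end setS

end Cfsg.Agent.H733
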