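import Mathlib
import Cfsg.Agent.H733.RootNd2
import Cfsg.Agent.H737.RootNormal
import Cfsg.Agent.BenderType.Classify
import Cfsg.Agent.S5044
import Cfsg.Agent.FastGrp
import Cfsg.Agent.Prune
set_option linter.all false
prune_inst 0x7f00000000000000000000000000000000000000000000000000000000000000000000000000000000000000000000000000000000000000000000000000000000000000000000000000000000000000003fffffffffffffffffffffffffffbeffbdffffffff
open scoped Cfsg.Agent.FastGrp

-- part: H733/RootNd3
section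
/-!
# Root involutions: the graph `𝓔(D)` of a nondegenerate class
-/

set_option autoImplicit false

namespace Cfsg.Agent.H733

open Cfsg Cfsg.Agent.H737

universe u

section

variable {G : Type*} [Group G] {D : Set G}

theorem prodAdj_symm {a b : G} (h : ProdAdj D a b) : ProdAdj D b a :=
  ⟨h.2.1, h.1, h.2.2.1.symm, h.2.2.2.1.symm, by rw [← h.2.2.2.1]; exact h.2.2.2.2⟩

theorem prodAdj_iff {a b : G} : ProdAdj D a b ↔ a ∈ D ∧ b ∈ productPartners D a := by
  rw [mem_productPartners]
  constructor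
  · rintro ⟨h1, h2, h3, h4, h5⟩
    exact ⟨h1, h2, h4, h3, h5⟩
  · rintro ⟨h1, h2, h4, h3, h5⟩
    exact ⟨h1, h2, h3, h4, h5⟩

theorem prodAdj_conj (h : IsRootInvolutionSet D) (g : G) {a b : G} (hab : ProdAdj D a b) :
    ProdAdj D (g * a * g⁻¹) (g * b * g⁻¹) := by
  obtain ⟨h1, h2, h3, h4, h5⟩ := hab
  refine ⟨h.conj_mem a h1 g, h.conj_mem b h2 g, fun h6 => h3 ?_, ?_, ?_⟩
  · simpa using h6
  · calc g * a * g⁻¹ * (g * b * g⁻¹) = g * (a * b) * g⁻¹ := by group
      _ = g * (b * a) * g⁻¹ := by rw [h4]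
      _ = _ := by group
  · have : g * a * g⁻¹ * (g * b * g⁻¹) = g * (a * b) * g⁻¹ := by group
    rw [this]
    exact h.conj_mem _ h5 g

/-- `a` and `b` are joined in `𝓔(D)`. -/
abbrev EC (D : Set G) (a b : G) : Prop := Relation.ReflTransGen (ProdAdj D) a b

theorem EC.symm' {a b : G} (h : EC D a b) : EC D b a :=
  rtg_symm (fun _ _ h => prodAdj_symm h) h

theorem ec_mem {a b : G} (ha : a ∈ D) (h : EC D a b) : b ∈ D := by
  rcases Relation.ReflTransGen.cases_tail h with h1 | ⟨c, _, h1⟩
  · rw [h1]; exact ha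
  · exact h1.2.1

theorem ec_of_order_four (h : IsRootInvolutionSet D) {a b : G} (ha : a ∈ D) (hb : b ∈ D)
    (h4 : orderOf (a * b) = 4) : EC D a b := by
  obtain ⟨h1, h2⟩ := order_four_partner h ha hb h4
  exact (Relation.ReflTransGen.single (prodAdj_iff.2 ⟨ha, h1⟩)).tail
    (prodAdj_symm (prodAdj_iff.2 ⟨hb, h2⟩))

theorem comm_or_opp_of_not_ec (h : IsRootInvolutionSet D) {a b : G} (ha : a ∈ D) (hb : b ∈ D)
    (hn : ¬ EC D a b) : Commute a b ∨ Opp a b := by
  rcases opp_trichotomy h ha hb with h1 | h1 | h1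
  · exact Or.inl h1
  · exact Or.inr h1
  · exact absurd (ec_of_order_four h ha hb h1.1) hn

/-- Opposition spreads over `𝓔`-components. -/
theorem opp_spread (h : IsRootInvolutionSet D) {a a' v : G} (hv : v ∈ D)
    (hne : ¬ EC D a v) (hav : Opp a v) (haa : EC D a a') : Opp a' v := by
  induction haa with
  | refl => exact hav
  | @tail y z hy hyz ih =>
    have hnzv : ¬ EC D z v := fun h1 => hne ((hy.tail hyz).trans h1)
    have hnc : ¬ Commute z v := by
      intro h1
      exact not_commute_of_opp h hyz.1 hyz.2.1 hyz.2.2.2.1 hyz.2.2.2.2 hv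
        (Opp.symm' h hyz.1 hv ih) h1.symm
    exact (comm_or_opp_of_not_ec h hyz.2.1 hv hnzv).resolve_left hnc

theorem comm_spread (h : IsRootInvolutionSet D) {a a' v : G} (ha : a ∈ D) (hv : v ∈ D)
    (hne : ¬ EC D a v) (hav : Commute a v) (haa : EC D a a') : Commute a' v := by
  have ha' := ec_mem ha haa
  have hne' : ¬ EC D a' v := fun h1 => hne (haa.trans h1)
  rcases comm_or_opp_of_not_ec h ha' hv hne' with h1 | h1
  · exact h1
  · exact absurd hav ((opp_spread h hv hne' h1 haa.symm').ncomm h ha hv)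

end

/-- Two involutions never have product of order 4. -/
def NoFour (Q : Type*) [Group Q] : Prop :=
  ∀ u w : Q, u * u = 1 → w * w = 1 → (u * w) ^ 4 = 1 → (u * w) ^ 2 = 1

/-- The generation step in a minimal counterexample. -/
theorem gen_top {G : Type u} [Group G] [Finite G] {D : Set G}
    (IH : ∀ (K : Type u) [Group K] [Finite K] (D' : Set K), Nat.card K < Nat.card G →
      IsNondegenerateRootInvolutionSet D' → IsRootInvolutionClass D' →
      IsConnectedSet (ProdAdj D') D')
    (hnd : IsNondegenerateRootInvolutionSet D) (hcl : IsRootInvolutionClass D)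
    (hc : IsConnectedSet (OddAdj D) D)
    {a v : G} (ha : a ∈ D) (hv : v ∈ D) (hav : Opp a v) (hne : ¬ EC D a v) :
    Subgroup.closure ({y | y ∈ D ∧ EC D a y} ∪ {v}) = ⊤ := by
  have h := hnd.1
  obtain ⟨S, hS⟩ : ∃ S : Set G, S = {y | y ∈ D ∧ EC D a y} ∪ {v} := ⟨_, rfl⟩
  rw [← hS]
  have hSD : S ⊆ D := by
    rw [hS]
    rintro y (hy | hy)
    · exact hy.1
    · rw [Set.mem_singleton_iff] at hy; rw [hy]; exact hv
  have hES : ∀ y, EC D a y → y ∈ Subgroup.closure S := fun y hy =>
    Subgroup.subset_closure (by rw [hS]; exact Or.inl ⟨ec_mem ha hy, hy⟩)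
  have haS : a ∈ Subgroup.closure S := hES a Relation.ReflTransGen.refl
  have hvS : v ∈ Subgroup.closure S := Subgroup.subset_closure (by rw [hS]; exact Or.inr rfl)
  have claim1 : ∀ y, EC D a y → ∃ g ∈ Subgroup.closure S, g * a * g⁻¹ = y := by
    intro y hy
    induction hy with
    | refl => exact ⟨1, one_mem _, by group⟩
    | @tail y z hy hyz ih =>
      obtain ⟨g, hg, hgy⟩ := ih
      have hyv : Opp y v := opp_spread h hv hne hav hy
      obtain ⟨k, hk, hkz⟩ := partner_conj h hc hyz.1 hv (Opp.symm' h hyz.1 hv hyv)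
        (prodAdj_iff.1 hyz).2
      have hle : Subgroup.closure (productPartners D y ∪ {v}) ≤ Subgroup.closure S := by
        rw [Subgroup.closure_le]
        rintro w (hw | hw)
        · exact hES w (hy.tail (prodAdj_iff.2 ⟨hyz.1, hw⟩))
        · rw [Set.mem_singleton_iff] at hw; rw [hw]; exact hvS
      refine ⟨k * g, mul_mem (hle hk) hg, ?_⟩
      rw [← hkz, ← hgy]; group
  let a' : ↥(Subgroup.closure S) := ⟨a, haS⟩
  let v' : ↥(Subgroup.closure S) := ⟨v, hvS⟩
  have hav' : Opp a' v' := opp_coe.1 hav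
  obtain ⟨D', hD'⟩ : ∃ D' : Set ↥(Subgroup.closure S), D' = {y | ∃ g, y = g * a' * g⁻¹} :=
    ⟨_, rfl⟩
  have hmem : ∀ y, y ∈ D' ↔ ∃ g, y = g * a' * g⁻¹ := by intro y; rw [hD']; rfl
  have hmemD : ∀ y ∈ D', (y : G) ∈ D := by
    intro y hy
    obtain ⟨g, hg⟩ := (hmem y).1 hy
    rw [hg]
    exact h.conj_mem a ha g
  have hE' : ∀ y (hy : EC D a y), (⟨y, hES y hy⟩ : ↥(Subgroup.closure S)) ∈ D' := by
    intro y hy
    obtain ⟨g, hg, hgy⟩ := claim1 y hy
    exact (hmem _).2 ⟨⟨g, hg⟩, Subtype.ext hgy.symm⟩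
  have ha' : a' ∈ D' := (hmem _).2 ⟨1, by group⟩
  have hv' : v' ∈ D' := by
    have h1 : a' * a' = 1 := Subtype.ext (sq_of_mem h ha)
    have h2 : v' * v' = 1 := Subtype.ext (sq_of_mem h hv)
    obtain ⟨g, hg⟩ := Opp.exists_conj h1 h2 hav'
    exact (hmem _).2 ⟨g, hg.symm⟩
  have hconj' : ∀ d ∈ D', ∀ g, g * d * g⁻¹ ∈ D' := by
    intro d hd g
    obtain ⟨k, hk⟩ := (hmem d).1 hd
    refine (hmem _).2 ⟨g * k, ?_⟩
    rw [hk]; group
  -- `D'` is a class of root involutions
  have hroot' : IsRootInvolutionSet D' := by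
    refine ⟨?_, ?_, hconj', ?_⟩
    · intro d hd
      rw [← Subgroup.orderOf_coe]
      exact h.orderOf_eq _ (hmemD d hd)
    · rw [eq_top_iff]
      rintro ⟨y, hy⟩ -
      induction hy using Subgroup.closure_induction with
      | mem x hx =>
        apply Subgroup.subset_closure
        have hx2 := hx
        rw [hS] at hx2
        rcases hx2 with hx2 | hx2
        · exact hE' x hx2.2
        · rw [Set.mem_singleton_iff] at hx2
          subst hx2
          exact hv'
      | one => exact one_mem _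
      | mul x y hx hy ihx ihy => exact mul_mem ihx ihy
      | inv x hx ihx => exact inv_mem ihx
    · intro p hp q hq
      have hpD := hmemD p hp
      have hqD := hmemD q hq
      rcases h.pair _ hpD _ hqD with h1 | h1 | h1
      · left; exact Subtype.ext h1
      · right; left
        rw [← Subgroup.orderOf_coe]
        exact h1
      · right; right
        refine ⟨by rw [← Subgroup.orderOf_coe]; exact h1.1, ?_⟩
        obtain ⟨g, hg⟩ := (hmem p).1 hp
        have h2 := (order_four_partner h hpD hqD h1.1).1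
        have h3 : ProdAdj D (p : G) ((p : G) * (q * (p * q))) := prodAdj_iff.2 ⟨hpD, h2⟩
        have h4 := prodAdj_conj h (g : G)⁻¹ h3
        have h5 : (g : G)⁻¹ * (p : G) * (g : G)⁻¹⁻¹ = a := by
          rw [hg]
          show (g : G)⁻¹ * ((g : G) * a * (g : G)⁻¹) * (g : G)⁻¹⁻¹ = a
          group
        rw [h5] at h4
        have h6 := hE' _ (Relation.ReflTransGen.single h4)
        have h7 := hconj' _ h6 g
        convert h7 using 1
        apply Subtype.ext
        show ((p : G) * q) ^ 2 = (g : G) * ((g : G)⁻¹ * ((p : G) * (q * (p * q))) * (g : G)⁻¹⁻¹) * (g : G)⁻¹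
        rw [pow_two]
        group
  have hcl' : IsRootInvolutionClass D' := by
    refine ⟨hroot', ⟨a', ha'⟩, ?_⟩
    intro p hp q hq
    obtain ⟨g, hg⟩ := (hmem p).1 hp
    obtain ⟨k, hk⟩ := (hmem q).1 hq
    refine ⟨k * g⁻¹, ?_⟩
    rw [hg, hk]; group
  -- a pair of order four containing `a`
  obtain ⟨q, hq, haq⟩ : ∃ q ∈ D, orderOf (a * q) = 4 := by
    obtain ⟨p, hp, q, hq, hpq⟩ := hnd.2.2.2
    obtain ⟨g, hg⟩ := hcl.2.2 p hp a ha
    refine ⟨g * q * g⁻¹, h.conj_mem q hq g, ?_⟩
    have : a * (g * q * g⁻¹) = g * (p * q) * g⁻¹ := by rw [hg]; group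
    rw [this, orderOf_conj', hpq]
  have hnd' : IsNondegenerateRootInvolutionSet D' := by
    refine ⟨hroot', ?_, ?_, ?_⟩
    · have h2 := (order_four_partner h ha hq haq).1
      have h3 : ProdAdj D a (a * (q * (a * q))) := prodAdj_iff.2 ⟨ha, h2⟩
      refine ⟨a', ha', _, hE' _ (Relation.ReflTransGen.single h3), ?_, ?_⟩
      · intro h4
        exact h3.2.2.1 (congrArg Subtype.val h4)
      · exact Subtype.ext h3.2.2.2.1
    · exact ⟨a', ha', v', hv', hav'.1, hav'.2⟩
    · refine ⟨a', ha', _, hE' q (ec_of_order_four h ha hq haq), ?_⟩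
      rw [← Subgroup.orderOf_coe]
      exact haq
  by_contra hlt
  have hcard : Nat.card ↥(Subgroup.closure S) < Nat.card G := by
    rcases lt_or_eq_of_le (Nat.le_of_dvd Nat.card_pos (Subgroup.card_subgroup_dvd_card
      (Subgroup.closure S))) with h1 | h1
    · exact h1
    · exact absurd (Subgroup.eq_top_of_card_eq _ h1) hlt
  have hcon := IH _ D' hcard hnd' hcl' a' ha' v' hv'
  apply hne
  exact hcon.lift (fun z : ↥(Subgroup.closure S) => (z : G)) (by
    intro x y hxy
    obtain ⟨h1, h2, h3, h4, h5⟩ := hxy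
    exact ⟨hmemD x h1, hmemD y h2, fun h6 => h3 (Subtype.ext h6), congrArg Subtype.val h4,
      hmemD _ h5⟩)

/-- `𝓔(D)` is connected in a minimal counterexample, case of connected commuting graph. -/
theorem prod_connected_of_comm {G : Type u} [Group G] [Finite G] {D : Set G}
    (IH : ∀ (K : Type u) [Group K] [Finite K] (D' : Set K), Nat.card K < Nat.card G →
      IsNondegenerateRootInvolutionSet D' → IsRootInvolutionClass D' →
      IsConnectedSet (ProdAdj D') D')
    (hnd : IsNondegenerateRootInvolutionSet D) (hcl : IsRootInvolutionClass D)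
    (hc : IsConnectedSet (OddAdj D) D) (hcomm : IsConnectedSet (CommAdj D) D)
    {a v : G} (ha : a ∈ D) (hv : v ∈ D) (hav : Opp a v) (hne : ¬ EC D a v) : False := by
  have h := hnd.1
  have key : ∀ y, Relation.ReflTransGen (CommAdj D) a y → y ∈ D ∧ (EC D a y ∨ Commute a y) := by
    intro y hy
    induction hy with
    | refl => exact ⟨ha, Or.inl Relation.ReflTransGen.refl⟩
    | @tail y z hy hyz ih =>
      obtain ⟨hyD, hzD, hyzne, hyzc⟩ := hyz
      refine ⟨hzD, ?_⟩
      by_contra hcon
      push Not at hcon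
      obtain ⟨hn1, hn2⟩ := hcon
      have haz : Opp a z := (comm_or_opp_of_not_ec h ha hzD hn1).resolve_left hn2
      by_cases h1 : EC D a y
      · have hn3 : ¬ EC D y z := fun h2 => hn1 (h1.trans h2)
        exact hn2 (comm_spread h hyD hzD hn3 hyzc h1.symm')
      · have h2 : Commute a y := ih.2.resolve_left h1
        by_cases h3 : EC D y z
        · have h4 : ¬ EC D y a := fun h5 => h1 h5.symm'
          exact hn2 (comm_spread h hyD ha h4 h2.symm h3).symm
        · -- `y` is central
          have htop := gen_top IH hnd hcl hc ha hzD haz hn1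
          have hcen : ∀ g : G, Commute y g := by
            intro g
            have hg : g ∈ Subgroup.closure ({y | y ∈ D ∧ EC D a y} ∪ {z}) := by
              rw [htop]; trivial
            induction hg using Subgroup.closure_induction with
            | mem w hw =>
              rcases hw with hw | hw
              · exact (comm_spread h ha hyD h1 h2 hw.2).symm
              · rw [Set.mem_singleton_iff] at hw; rw [hw]; exact hyzc
            | one => exact Commute.one_right y
            | mul p q _ _ hp hq => exact hp.mul_right hq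
            | inv p _ hp => exact hp.inv_right
          obtain ⟨g, hg⟩ := hcl.2.2 y hyD a ha
          apply h1
          have : a = y := by rw [hg, ← (hcen g).eq, mul_inv_cancel_right]
          rw [this]
  rcases (key v (hcomm a ha v hv)).2 with h1 | h1
  · exact hne h1
  · exact hav.ncomm h ha hv h1

/-- A quotient by `Z_*(G)` with the property `NoFour` is impossible. -/
theorem not_noFour_quotient {G : Type u} [Group G] [Finite G] {D : Set G}
    (hnd : IsNondegenerateRootInvolutionSet D)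
    (hc : IsConnectedSet (OddAdj D) D) (hq : NoFour (G ⧸ twoZCore G)) : False := by
  have h := hnd.1
  obtain ⟨-, -, ⟨a, ha, c, hcD, hac, hodd⟩, p, hp, q, hqD, hpq⟩ := hnd
  have hopp : Opp c a := Opp.symm' h ha hcD ⟨hac, hodd⟩
  have hnt : twoZCore G ≠ ⊤ := by
    intro h1
    apply mul_not_mem_twoZCore h ha hcD hopp
    rw [h1]; trivial
  have hpp := sq_of_mem h hp
  have hqq := sq_of_mem h hqD
  have ht : (p * q) ^ 2 ∈ D := by
    rw [pow_two]; exact mem_of_order_four h hp hqD hpq |> fun h1 => by simpa only [mul_assoc] using h1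
  have h1 := hq (QuotientGroup.mk p) (QuotientGroup.mk q)
    (by rw [← QuotientGroup.mk_mul, hpp]; rfl) (by rw [← QuotientGroup.mk_mul, hqq]; rfl)
    (by rw [← QuotientGroup.mk_mul, ← QuotientGroup.mk_pow, ← hpq, pow_orderOf_eq_one]; rfl)
  rw [← QuotientGroup.mk_mul, ← QuotientGroup.mk_pow, QuotientGroup.eq_one_iff] at h1
  exact not_mem_of_normal_ne_top h hc inferInstance hnt ht h1

end Cfsg.Agent.H733
end

-- part: H733/NoFour
section
/-!
# Two involutions of `L₂(q)`, `Sz(q)`, `U₃(q)`, `q` even, never have product of order 4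
-/

set_option autoImplicit false

namespace Cfsg.Agent.H733

open Cfsg Cfsg.Agent.H737

/-- If involutions of every Sylow 2-subgroup commute, then no two involutions have product of
order 4. -/
theorem noFour_of_sylow {Q : Type*} [Group Q] [Finite Q]
    (h : ∀ (P : Sylow 2 Q) (x y : ↥(P : Subgroup Q)), x * x = 1 → y * y = 1 → x * y = y * x) :
    NoFour Q := by
  intro u w hu hw h4
  have h1 : orderOf (u * w) ∣ 2 ^ 2 := orderOf_dvd_of_pow_eq_one h4
  obtain ⟨k, -, hk⟩ := (Nat.dvd_prime_pow Nat.prime_two).1 h1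
  have : Fact (Nat.Prime 2) := ⟨Nat.prime_two⟩
  obtain ⟨P, hP⟩ := (two_group_of_pair hu hw hk).exists_le_sylow
  have hu' : u ∈ (P : Subgroup Q) := hP (Subgroup.subset_closure (by simp))
  have hw' : w ∈ (P : Subgroup Q) := hP (Subgroup.subset_closure (by simp))
  have h2 := congrArg Subtype.val (h P ⟨u, hu'⟩ ⟨w, hw'⟩ (Subtype.ext hu) (Subtype.ext hw))
  have h3 : u * w = w * u := h2
  calc (u * w) ^ 2 = u * (w * u) * w := by rw [pow_two]; group
    _ = u * (u * w) * w := by rw [h3]
    _ = (u * u) * (w * w) := by group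
    _ = 1 := by rw [hu, hw, one_mul]

theorem NoFour.congr {Q R : Type*} [Group Q] [Group R] (h : NoFour Q) (e : R ≃* Q) : NoFour R := by
  intro u w hu hw h4
  have h1 := h (e u) (e w) (by rw [← map_mul, hu, map_one]) (by rw [← map_mul, hw, map_one])
    (by rw [← map_mul, ← map_pow, h4, map_one])
  rw [← map_mul, ← map_pow] at h1
  exact (map_eq_one_iff e e.injective).1 h1

theorem noFour_suzuki {Q : Type*} [Group Q] [Finite Q] (h : Lie.IsoSuzuki Q) : NoFour Q := by
  obtain ⟨F, iF, iFin, m, hm, hF, ⟨e⟩⟩ := h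
  refine NoFour.congr ?_ e
  exact noFour_of_sylow fun P => (BenderType.Inv.ty_sz hm hF P).comm

theorem noFour_psu {F : Type} [Field F] [Fintype F] {q : ℕ} [CharP F 2]
    (hF : Fintype.card F = q ^ 2) (hq : 4 ≤ q) : NoFour (PSU 3 F q) := by
  obtain ⟨n, hn⟩ : ∃ n, q = 2 ^ n := by
    obtain ⟨n, hp, hn⟩ := FiniteField.card F 2
    rw [hF] at hn
    have h1 : q ∣ 2 ^ (n : ℕ) := ⟨q, by rw [← hn, pow_two]⟩
    obtain ⟨k, -, hk⟩ := (Nat.dvd_prime_pow Nat.prime_two).1 h1
    exact ⟨k, hk⟩
  have hn1 : 1 ≤ n := by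
    rcases Nat.eq_zero_or_pos n with h1 | h1
    · rw [h1, pow_zero] at hn; omega
    · exact h1
  subst hn
  exact noFour_of_sylow fun P => (BenderType.Inv.ty_psu hn1 hF P).comm

theorem sq_eq_one_of_four {F : Type*} [Field F] [CharP F 2] {A : Matrix (Fin 2) (Fin 2) F}
    (hdet : A.det = 1) (h4 : A * A * (A * A) = 1) : A * A = 1 := by
  have h2 : (2 : F) = 0 := CharTwo.two_eq_zero
  have hd : A 0 0 * A 1 1 - A 0 1 * A 1 0 = 1 := by rw [← hdet, Matrix.det_fin_two]
  obtain ⟨τ, hτ⟩ : ∃ τ, τ = A 0 0 + A 1 1 := ⟨_, rfl⟩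
  have hCH : A * A = τ • A + 1 := by
    ext i j
    fin_cases i <;> fin_cases j <;>
      simp [Matrix.mul_apply, Fin.sum_univ_two, hτ] <;>
      first
        | (ring1)
        | linear_combination (-1 : F) * hd - h2
  have hsq : A * A * (A * A) = (τ * τ) • (A * A) + 1 := by
    have h5 : (τ • A + 1) * (τ • A + 1) = (τ * τ) • (A * A) + ((2 : F) * τ) • A + 1 := by
      rw [add_mul, mul_add, mul_add, Matrix.smul_mul, Matrix.mul_smul, smul_smul, mul_one, one_mul,
        mul_one, two_mul, add_smul]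
      abel
    rw [h2, zero_mul, zero_smul, add_zero] at h5
    rw [← h5, ← hCH]
  have h5 : (τ * τ) • (A * A) = 0 := by
    have := h4.symm.trans hsq
    simpa using this
  have h6 : (τ * τ) • (1 : Matrix (Fin 2) (Fin 2) F) = 0 := by
    have h7 : (τ * τ) • (A * A * (A * A)) = 0 := by
      rw [← Matrix.smul_mul, h5, zero_mul]
    rwa [h4] at h7
  have h7 : τ * τ = 0 := by
    have := congrFun (congrFun h6 0) 0
    simpa using this
  have h8 : τ = 0 := mul_self_eq_zero.1 h7
  rw [hCH, h8, zero_smul, zero_add]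

theorem noFour_psl {F : Type} [Field F] [Fintype F] [CharP F 2] :
    NoFour (Matrix.ProjectiveSpecialLinearGroup (Fin 2) F) := by
  intro u w hu hw h4
  obtain ⟨g, hg⟩ := QuotientGroup.mk_surjective (u * w)
  rw [← hg] at h4 ⊢
  rw [← QuotientGroup.mk_pow, QuotientGroup.eq_one_iff] at h4 ⊢
  rw [Matrix.SpecialLinearGroup.mem_center_iff] at h4
  obtain ⟨r, hr, hr4⟩ := h4
  have hr1 : r = 1 := by
    have h1 : (r - 1) * (r - 1) = 0 := by
      have h2 : (2 : F) = 0 := CharTwo.two_eq_zero
      have h3 : r ^ 2 = 1 := by simpa using hr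
      linear_combination h3 + (1 - r) * h2
    exact sub_eq_zero.1 (mul_self_eq_zero.1 h1)
  rw [hr1, map_one] at hr4
  have h5 : (g : Matrix (Fin 2) (Fin 2) F) * g * (g * g) = 1 := by
    rw [hr4]
    simp only [pow_succ, pow_zero, one_mul, mul_assoc, Matrix.SpecialLinearGroup.coe_mul]
  have h6 := sq_eq_one_of_four g.2 h5
  have h7 : g ^ 2 = 1 := by
    apply Subtype.ext
    rw [pow_two]
    exact h6
  rw [h7]
  exact one_mem _

end Cfsg.Agent.H733
end

-- part: H733/RootNd4
section
/-!
# Root involutions: `𝓔(D)` is connected, `G = ⟨X_d, x⟩`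
-/

set_option autoImplicit false

namespace Cfsg.Agent.H733

open Cfsg Cfsg.Agent.H737

universe u

/-- `𝓔(D)` is connected for a nondegenerate class of root involutions. -/
theorem prod_connected {G : Type u} [Group G] [Finite G] {D : Set G}
    (hnd : IsNondegenerateRootInvolutionSet D) (hcl : IsRootInvolutionClass D) :
    IsConnectedSet (ProdAdj D) D := by
  suffices H : ∀ (n : ℕ) (K : Type u) [Group K] [Finite K] (D' : Set K), Nat.card K = n →
      IsNondegenerateRootInvolutionSet D' → IsRootInvolutionClass D' →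
      IsConnectedSet (ProdAdj D') D' from H _ G D rfl hnd hcl
  intro n
  induction n using Nat.strong_induction_on with
  | _ n IH0 =>
  intro G _ _ D hcard hnd hcl
  have IH : ∀ (K : Type u) [Group K] [Finite K] (D' : Set K), Nat.card K < Nat.card G →
      IsNondegenerateRootInvolutionSet D' → IsRootInvolutionClass D' →
      IsConnectedSet (ProdAdj D') D' := by
    intro K _ _ D' hlt h1 h2
    exact IH0 (Nat.card K) (by omega) K D' rfl h1 h2
  have h := hnd.1
  have hex : ∃ a ∈ D, ∃ b ∈ D, Opp a b := by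
    obtain ⟨a, ha, b, hb, h1, h2⟩ := hnd.2.2.1
    exact ⟨a, ha, b, hb, h1, h2⟩
  have hc := odd_connected hcl hex
  intro a0 ha0 v0 hv0
  by_contra hcon
  -- an opposite pair in different components
  obtain ⟨a, ha, v, hv, hav, hne⟩ : ∃ a ∈ D, ∃ v ∈ D, Opp a v ∧ ¬ EC D a v := by
    by_contra hall
    push Not at hall
    apply hcon
    exact (hc a0 ha0 v0 hv0).lift' id (fun x y hxy => hall x hxy.1 y hxy.2.1 (opp_of_oddAdj hxy))
  -- a product of commuting members in `D`
  have hDD : (D ∩ commutingProducts D).Nonempty := by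
    obtain ⟨p, hp, q, hq, hpq⟩ := hnd.2.2.2
    obtain ⟨h1, h2, h3, h4⟩ := mem_productPartners.1 (order_four_partner h hp hq hpq).1
    exact ⟨_, h4, p, hp, _, h1, h2.eq, ne_one_of_mem h h4, rfl⟩
  rcases S5044.result h hDD with h1 | h1 | h1 | h1
  · exact prod_connected_of_comm IH hnd hcl hc h1 ha hv hav hne
  · obtain ⟨F, iF, iFin, hchar, -, ⟨e⟩⟩ := h1
    exact not_noFour_quotient hnd hc (noFour_psl.congr e)
  · exact not_noFour_quotient hnd hc (noFour_suzuki h1)
  · obtain ⟨F, iF, iFin, q, hchar, hF, hq, ⟨e⟩⟩ := h1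
    exact not_noFour_quotient hnd hc ((noFour_psu hF hq).congr e)

/-- `G = ⟨X_d, x⟩` for opposite `x`, `d`. -/
theorem closure_eq_top {G : Type u} [Group G] [Finite G] {D : Set G}
    (hnd : IsNondegenerateRootInvolutionSet D) (hcl : IsRootInvolutionClass D) {d x : G}
    (hd : d ∈ D) (hx : x ∈ D) (hxd : Opp x d) :
    Subgroup.closure (productPartners D d ∪ {x}) = ⊤ := by
  have h := hnd.1
  have hex : ∃ a ∈ D, ∃ b ∈ D, Opp a b := ⟨x, hx, d, hd, hxd⟩
  have hc := odd_connected hcl hex
  obtain ⟨H, hH⟩ : ∃ H, H = Subgroup.closure (productPartners D d ∪ {x}) := ⟨_, rfl⟩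
  rw [← hH]
  -- some member of `X_d`
  obtain ⟨e, he⟩ : ∃ e, e ∈ productPartners D d := by
    obtain ⟨p, hp, q, hq, hpq⟩ := hnd.2.2.2
    obtain ⟨g, hg⟩ := hcl.2.2 p hp d hd
    have h1 := prodAdj_conj h g (prodAdj_iff.2 ⟨hp, (order_four_partner h hp hq hpq).1⟩)
    rw [← hg] at h1
    exact ⟨_, (prodAdj_iff.1 h1).2⟩
  have hdH : d ∈ H := by
    obtain ⟨h1, h2, h3, h4⟩ := mem_productPartners.1 he
    have h5 : d * e ∈ productPartners D d := by
      refine mem_productPartners.2 ⟨h4, (Commute.refl d).mul_right h2, ?_, ?_⟩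
      · intro h6
        have : d * 1 = d * e := by rw [mul_one]; exact h6
        exact ne_one_of_mem h h1 (mul_left_cancel this).symm
      · rw [← mul_assoc, sq_of_mem h hd, one_mul]; exact h1
    have h6 : d = (d * e) * e⁻¹ := by group
    rw [h6, hH]
    exact mul_mem (Subgroup.subset_closure (Or.inl h5))
      (inv_mem (Subgroup.subset_closure (Or.inl he)))
  have hxH : x ∈ H := by rw [hH]; exact Subgroup.subset_closure (Or.inr rfl)
  -- `Δ = d^H`
  have key : ∀ y, EC D d y → ∃ g ∈ H, g * d * g⁻¹ = y := by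
    intro y hy
    induction hy with
    | refl => exact ⟨1, one_mem _, by group⟩
    | @tail y z hy hyz ih =>
      obtain ⟨g, hg, hgy⟩ := ih
      have h1 := prodAdj_conj h g⁻¹ hyz
      have h2 : g⁻¹ * y * g⁻¹⁻¹ = d := by rw [← hgy]; group
      rw [h2] at h1
      obtain ⟨k, hk, hkz⟩ := partner_conj h hc hd hx hxd (prodAdj_iff.1 h1).2
      rw [← hH] at hk
      refine ⟨g * k, mul_mem hg hk, ?_⟩
      have h3 : z = g * (g⁻¹ * z * g⁻¹⁻¹) * g⁻¹ := by group
      rw [h3, ← hkz]; group
  have hDH : D ⊆ H := by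
    intro y hy
    obtain ⟨g, hg, hgy⟩ := key y (prod_connected hnd hcl d hd y hy)
    rw [← hgy]
    exact mul_mem (mul_mem hg hdH) (inv_mem hg)
  rw [eq_top_iff, ← h.generates, Subgroup.closure_le]
  exact hDH

end Cfsg.Agent.H733
end
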